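import Cfsg.Agent.ClassicalSteinberg.Cycles
import Cfsg.Agent.Char.Linear
import Cfsg.Agent.Char.Ortho

/-!
The Steinberg character of a finite group of isometries of a polar space generated over the moves, of the
Sylow order equal to the number of chambers opposite to a chamber.
-/

set_option autoImplicit false

namespace Cfsg.Agent.ClassicalSteinberg.Polar

open Module
open scoped Pointwise

universe u v w

variable {F : Type u} {V : Type v} [Field F] [AddCommGroup V] [Module F V] [FiniteDimensional F V]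
  [Finite V] [Finite F] {P : Polar F V} {G : Type w} [Group G] (ρ : G →* P.isom)

omit [Finite V] [Finite F] [FiniteDimensional F V] in
theorem Adj.smul {i : ℕ} {C C' : P.Chamber} (h : Adj i C C') (g : P.isom) : Adj i (g • C) (g • C') :=
  fun j hj hne => by rw [smul_fl, smul_fl, h j hj hne]

omit [Finite F] [FiniteDimensional F V] in
theorem cycles_smul {f : P.Chamber → ℂ} (hf : f ∈ P.cycles) (g : P.isom) :
    (fun C => f (g • C)) ∈ P.cycles := by
  intro i h1 h2 C
  rw [← hf i h1 h2 (g • C)]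
  refine Finset.sum_equiv (MulAction.toPerm g) (fun C' => ?_) (fun C' _ => rfl)
  rw [MulAction.toPerm_apply, mem_panel, mem_panel]
  exact ⟨fun h => h.smul g, fun h => by simpa using h.smul g⁻¹⟩

/-- The representation on cycles. -/
noncomputable def cycleRep : Representation ℂ G P.cycles where
  toFun g :=
    { toFun := fun f => ⟨fun C => f.1 ((ρ g)⁻¹ • C), cycles_smul f.2 _⟩
      map_add' := fun _ _ => rfl
      map_smul' := fun _ _ => rfl }
  map_one' := by
    ext f C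
    show f.1 ((ρ 1)⁻¹ • C) = f.1 C
    rw [map_one, inv_one, one_smul]
  map_mul' g h := by
    ext f C
    show f.1 ((ρ (g * h))⁻¹ • C) = f.1 ((ρ h)⁻¹ • (ρ g)⁻¹ • C)
    rw [map_mul, mul_inv_rev, mul_smul]

omit [Finite F] [FiniteDimensional F V] in
theorem cycleRep_apply (g : G) (f : P.cycles) (C : P.Chamber) :
    (cycleRep ρ g f).1 C = f.1 ((ρ g)⁻¹ • C) := rfl

/-- The part of the group in the unipotent subgroup of a chamber. -/
def unipG (C : P.Chamber) : Subgroup G := (unip C).comap ρ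

omit [Finite F] in
theorem card_opp_eq [Finite F] (C C' : P.Chamber) :
    Nat.card {D : P.Chamber // Opp C D} = Nat.card {D : P.Chamber // Opp C' D} :=
  Nat.eq_of_mul_eq_mul_right (pow_pos (Nat.card_pos (α := F)) _) ((card_opp C).trans (card_opp C').symm)

section

variable (hinj : Function.Injective ρ) (hmoves : P.moves ⊆ Set.range ρ)
include hinj hmoves

theorem card_unipG (C : P.Chamber) : Nat.card (unipG ρ C) = Nat.card {D : P.Chamber // Opp C D} := by
  rw [← card_unip C]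
  refine Nat.card_congr (Equiv.ofBijective (fun x : unipG ρ C => (⟨ρ x.1, x.2⟩ : unip C))
    ⟨fun x y h => Subtype.ext (hinj (congrArg Subtype.val h)), fun y => ?_⟩)
  have hle : Subgroup.closure P.moves ≤ ρ.range :=
    (Subgroup.closure_le _).2 fun z hz => MonoidHom.mem_range.2 (hmoves hz)
  obtain ⟨x, hx⟩ := hle (unip_le_closure C y.2)
  exact ⟨⟨x, by show ρ x ∈ unip C; rw [hx]; exact y.2⟩, Subtype.ext hx⟩

omit hinj in
theorem center_fixes (hsize : P.m ≠ 0 → 2 < finrank F V ∨ 2 ≤ P.t) {z : G} (hz : z ∈ Subgroup.center G)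
    (C : P.Chamber) : ρ z • C = C := by
  refine Chamber.ext fun i hi => ?_
  rw [smul_fl]
  refine Submodule.eq_of_le_of_finrank_eq ?_ (LinearEquiv.finrank_map_eq _ _)
  rintro _ ⟨e, he, rfl⟩
  by_cases he0 : e = 0
  · rw [he0, map_zero]; exact zero_mem _
  have hm : P.m ≠ 0 := fun h => he0 (by
    rw [show i = 0 by omega, C.fl_zero] at he
    simpa using he)
  have hfix : ∀ f f', ∀ h : MoveData P e f f', h.move.1 ((ρ z).1 e) = (ρ z).1 e := by
    intro f f' h
    obtain ⟨x, hx⟩ := hmoves ⟨e, f, f', h, rfl⟩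
    have he' : h.move.1 e = e := by
      rw [h.move_apply, moveMap_apply, P.sing_self e h.he]
      have : P.B (f' - f) e = 0 := P.swap_zero (by rw [map_sub, h.ef, h.ef', sub_self])
      rw [this]
      simp
    calc h.move.1 ((ρ z).1 e) = (ρ (x * z)).1 e := by rw [map_mul, hx, isom_mul_apply]
      _ = (ρ (z * x)).1 e := by rw [Subgroup.mem_center_iff.1 hz x]
      _ = (ρ z).1 e := by rw [map_mul, hx, isom_mul_apply, he']
  obtain ⟨c, hc⟩ := Submodule.mem_span_singleton.1 (mem_span_of_fixed (hsize hm) he0 (C.fl_sing he) hfix)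
  rw [LinearEquiv.coe_coe, ← hc]
  exact Submodule.smul_mem _ _ he

omit hinj hmoves in
theorem trace_perm {α : Type*} [Fintype α] (T : (α → ℂ) →ₗ[ℂ] α → ℂ) (π : α → α)
    (hT : ∀ g a, T g a = g (π a)) (hπ : ∀ a, π a ≠ a) : LinearMap.trace ℂ (α → ℂ) T = 0 := by
  classical
  rw [LinearMap.trace_eq_matrix_trace ℂ (Pi.basisFun ℂ α), Matrix.trace]
  refine Finset.sum_eq_zero fun a _ => ?_
  rw [Matrix.diag_apply, LinearMap.toMatrix_apply, Pi.basisFun_apply, Pi.basisFun_repr, hT,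
    Pi.single_apply, if_neg (hπ a)]

variable [Finite G] (p : ℕ) [Fact p.Prime] (C₀ : P.Chamber)
  (hsyl : ∀ Q : Sylow p G, Nat.card Q = Nat.card {D : P.Chamber // Opp C₀ D})
include hsyl

theorem exists_sylow (C : P.Chamber) : ∃ Q : Sylow p G, (Q : Subgroup G) = unipG ρ C := by
  obtain ⟨Q₀⟩ := (Sylow.nonempty : Nonempty (Sylow p G))
  have h := Q₀.card_eq_multiplicity
  rw [hsyl Q₀, card_opp_eq C₀ C, ← card_unipG ρ hinj hmoves C] at h
  exact ⟨Sylow.ofCard _ h, Sylow.coe_ofCard _ h⟩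

theorem exists_conj (C : P.Chamber) :
    ∃ g : G, ∀ x, x ∈ unipG ρ C ↔ g⁻¹ * x * g ∈ unipG ρ C₀ := by
  obtain ⟨Q, hQ⟩ := exists_sylow ρ hinj hmoves p C₀ hsyl C
  obtain ⟨Q₀, hQ₀⟩ := exists_sylow ρ hinj hmoves p C₀ hsyl C₀
  obtain ⟨g, hg⟩ := MulAction.exists_smul_eq G Q₀ Q
  refine ⟨g, fun x => ?_⟩
  rw [← hQ, ← hQ₀, ← hg, Sylow.coe_subgroup_smul, Subgroup.mem_pointwise_smul_iff_inv_smul_mem]
  simp [MulAut.smul_def]

omit hmoves hsyl [Finite G] [Fact p.Prime] [Finite F] in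
theorem character_unip {u : G} (hu : u ∈ unipG ρ C₀) :
    (u ≠ 1 → (cycleRep ρ).character u = 0) ∧
      (cycleRep ρ).character 1 = Nat.card {D : P.Chamber // Opp C₀ D} := by
  classical
  have : Fintype {D : P.Chamber // Opp C₀ D} := Fintype.ofFinite _
  let e := LinearEquiv.ofBijective (resOpp C₀) (resOpp_bijective C₀)
  constructor
  · intro hu1
    show LinearMap.trace ℂ _ (cycleRep ρ u) = 0
    rw [← LinearMap.trace_conj' (cycleRep ρ u) e]
    have hinv : ρ u⁻¹ ∈ unip C₀ := by rw [map_inv]; exact inv_mem hu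
    refine trace_perm (π := fun D => ⟨ρ u⁻¹ • D.1, ?_⟩) _ (fun g D => ?_) fun D hD => hu1 ?_
    · conv_lhs => rw [← unip_smul hinv]
      exact D.2.smul _
    · obtain ⟨f, rfl⟩ := e.surjective g
      rw [LinearEquiv.conj_apply_apply, LinearEquiv.symm_apply_apply]
      show f.1 ((ρ u)⁻¹ • D.1) = f.1 (ρ u⁻¹ • D.1)
      rw [map_inv]
    · exact inv_eq_one.1 (hinj (by
        rw [map_one]; exact unip_smul_opp_free D.2 hinv (congrArg Subtype.val hD)))
  · rw [Representation.char_one, e.finrank_eq, Module.finrank_fintype_fun_eq_card, Nat.card_eq_fintype_card]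

theorem cycleRep_irreducible : (cycleRep ρ).IsIrreducible := by
  classical
  obtain ⟨D₀, hD₀⟩ := exists_opp C₀
  have hconst : ∀ φ : P.cycles, (∀ u ∈ unipG ρ C₀, cycleRep ρ u φ = φ) → φ.1 D₀ = 0 → φ = 0 := by
    intro φ hφ h0
    refine Subtype.ext (cycle_eq_zero (C₀ := C₀) φ.2 fun D hD => ?_)
    obtain ⟨g, hg, hgD⟩ := unip_transitive hD hD₀
    have hle : Subgroup.closure P.moves ≤ ρ.range :=
      (Subgroup.closure_le _).2 fun z hz => MonoidHom.mem_range.2 (hmoves hz)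
    obtain ⟨x, hx⟩ := hle (unip_le_closure C₀ hg)
    have hu : x⁻¹ ∈ unipG ρ C₀ := by
      show ρ x⁻¹ ∈ unip C₀
      rw [map_inv, hx]; exact inv_mem hg
    have h := congrArg (fun ψ : P.cycles => ψ.1 D) (hφ _ hu)
    simp only [cycleRep_apply, map_inv, inv_inv, hx, hgD] at h
    rw [← h, h0]
  have : Fintype G := Fintype.ofFinite G
  have hex : ∀ W : Submodule ℂ P.cycles, (∀ g : G, ∀ f ∈ W, cycleRep ρ g f ∈ W) → W ≠ ⊥ →
      ∃ φ ∈ W, φ ≠ 0 ∧ ∀ u ∈ unipG ρ C₀, cycleRep ρ u φ = φ := by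
    intro W hW hne
    by_contra hc
    push Not at hc
    refine hne ((Submodule.eq_bot_iff _).2 fun f hf => Subtype.ext (funext fun C => ?_))
    obtain ⟨g, hg⟩ := exists_conj ρ hinj hmoves p C₀ hsyl C
    set U := Finset.univ.filter (· ∈ unipG ρ C) with hU
    set avg : P.cycles := ∑ x ∈ U, cycleRep ρ x f with havg
    have hfix : ∀ x ∈ unipG ρ C, cycleRep ρ x avg = avg := by
      intro x hx
      rw [havg, map_sum]
      refine Finset.sum_equiv (Equiv.mulLeft x) (fun y => ?_) (fun y _ => ?_)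
      · simp only [hU, Finset.mem_filter, Finset.mem_univ, true_and, Equiv.coe_mulLeft]
        exact (Subgroup.mul_mem_cancel_left _ hx).symm
      · rw [Equiv.coe_mulLeft, map_mul]; rfl
    have hmem : avg ∈ W := Submodule.sum_mem _ fun x _ => hW x f hf
    have h0 : cycleRep ρ g⁻¹ avg = 0 := by
      by_contra h
      obtain ⟨u, hu, hune⟩ := hc _ (hW g⁻¹ avg hmem) h
      refine hune ?_
      have h1 := hfix (g * u * g⁻¹) ((hg _).2 (by simpa [mul_assoc] using hu))
      calc cycleRep ρ u (cycleRep ρ g⁻¹ avg)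
          = cycleRep ρ (g⁻¹ * (g * u * g⁻¹)) avg := by
            rw [show g⁻¹ * (g * u * g⁻¹) = u * g⁻¹ by group, map_mul]; rfl
        _ = cycleRep ρ g⁻¹ (cycleRep ρ (g * u * g⁻¹) avg) := by rw [map_mul]; rfl
        _ = cycleRep ρ g⁻¹ avg := by rw [h1]
    have havg0 : avg = 0 := by
      have := congrArg (cycleRep ρ g) h0
      rw [map_zero] at this
      rwa [← Module.End.mul_apply, ← map_mul, mul_inv_cancel, map_one, Module.End.one_apply] at this
    have hval : avg.1 C = (U.card : ℂ) * f.1 C := by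
      rw [havg, AddSubmonoidClass.coe_finsetSum, Finset.sum_apply,
        Finset.sum_congr rfl fun x hx => ?_, Finset.sum_const, nsmul_eq_mul]
      have hxm : ρ x ∈ unip C := (Finset.mem_filter.1 hx).2
      rw [cycleRep_apply, ← map_inv, unip_smul (by rw [map_inv]; exact inv_mem hxm)]
    rw [havg0] at hval
    have hcard : (U.card : ℂ) ≠ 0 := Nat.cast_ne_zero.2
      (Finset.card_ne_zero.2 ⟨1, Finset.mem_filter.2 ⟨Finset.mem_univ _, one_mem _⟩⟩)
    exact (mul_eq_zero.1 hval.symm).resolve_left hcard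
  refine Char.isIrreducible_iff.2 ⟨?_, fun W hW => ?_⟩
  · have : Nonempty {D : P.Chamber // Opp C₀ D} := ⟨⟨D₀, hD₀⟩⟩
    exact (resOpp_bijective C₀).2.nontrivial
  by_cases hW0 : W = ⊥
  · exact Or.inl hW0
  refine Or.inr ?_
  let S : Subrepresentation (cycleRep ρ) := ⟨W, fun g v hv => hW g v hv⟩
  have : NeZero (Nat.card G : ℂ) := ⟨Nat.cast_ne_zero.2 Nat.card_pos.ne'⟩
  obtain ⟨T, hT⟩ := exists_isCompl S
  have hdisj : W ⊓ T.toSubmodule = ⊥ := congrArg Subrepresentation.toSubmodule (disjoint_iff.1 hT.1)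
  have hsup : W ⊔ T.toSubmodule = ⊤ := congrArg Subrepresentation.toSubmodule (codisjoint_iff.1 hT.2)
  by_cases hT0 : T.toSubmodule = ⊥
  · rwa [hT0, sup_bot_eq] at hsup
  obtain ⟨φ, hφ, hφ0, hφf⟩ := hex W hW hW0
  obtain ⟨ψ, hψ, hψ0, hψf⟩ := hex T.toSubmodule (fun g v hv => T.apply_mem_toSubmodule g hv) hT0
  exfalso
  have hzero : ψ.1 D₀ • φ - φ.1 D₀ • ψ = 0 := by
    refine hconst _ (fun u hu => by rw [map_sub, map_smul, map_smul, hφf u hu, hψf u hu]) ?_
    show ψ.1 D₀ * φ.1 D₀ - φ.1 D₀ * ψ.1 D₀ = 0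
    ring
  have hmem : φ.1 D₀ • ψ ∈ W ⊓ T.toSubmodule :=
    ⟨by rw [← sub_eq_zero.1 hzero]; exact W.smul_mem _ hφ, T.toSubmodule.smul_mem _ hψ⟩
  rw [hdisj, Submodule.mem_bot, smul_eq_zero] at hmem
  exact hmem.elim (fun h => hφ0 (hconst φ hφf h)) hψ0

theorem exists_steinberg (hsize : P.m ≠ 0 → 2 < finrank F V ∨ 2 ≤ P.t) :
    ∃ φ : G ⧸ Subgroup.center G → ℂ, Cfsg.IsIrrCharacter (G ⧸ Subgroup.center G) φ ∧
      ∀ Q : Sylow p (G ⧸ Subgroup.center G), φ 1 = Nat.card Q ∧
        ∀ x : G ⧸ Subgroup.center G, x ∈ Q → x ≠ 1 → φ x = 0 := by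
  classical
  set Z := Subgroup.center G with hZdef
  have hp : p.Prime := Fact.out
  obtain ⟨Q₀, hQ₀⟩ := exists_sylow ρ hinj hmoves p C₀ hsyl C₀
  have hχ : Cfsg.IsIrrCharacter G (cycleRep ρ).character :=
    Char.isIrrCharacter_of_rep _ (cycleRep_irreducible ρ hinj hmoves p C₀ hsyl)
  have hker : ∀ z ∈ Z, (cycleRep ρ).character z = (cycleRep ρ).character 1 := by
    intro z hz
    have : cycleRep ρ z = cycleRep ρ 1 := by
      refine LinearMap.ext fun f => Subtype.ext (funext fun C => ?_)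
      rw [cycleRep_apply, cycleRep_apply, map_one, inv_one, one_smul, ← map_inv,
        center_fixes ρ hmoves hsize (inv_mem hz)]
    show LinearMap.trace ℂ _ (cycleRep ρ z) = LinearMap.trace ℂ _ (cycleRep ρ 1)
    rw [this]
  obtain ⟨φ, hφ, hφχ⟩ := Char.IsIrr.exists_quotient Z hχ hker
  have hZp : ¬ p ∣ Nat.card Z := by
    intro h
    obtain ⟨z, hz⟩ := exists_prime_orderOf_dvd_card' p h
    have hpz : IsPGroup p (Subgroup.zpowers (z : G)) := by
      refine IsPGroup.of_card (n := 1) ?_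
      rw [Nat.card_zpowers, Subgroup.orderOf_coe, hz, pow_one]
    obtain ⟨Q', hQ'⟩ := hpz.exists_le_sylow
    obtain ⟨g, hg⟩ := MulAction.exists_smul_eq G Q' Q₀
    have hzQ : (z : G) ∈ unipG ρ C₀ := by
      rw [← hQ₀, ← hg, Sylow.coe_subgroup_smul, Subgroup.mem_pointwise_smul_iff_inv_smul_mem]
      have h1 : g⁻¹ * (z : G) * g = z := by
        rw [mul_assoc, ← Subgroup.mem_center_iff.1 z.2 g, inv_mul_cancel_left]
      simpa [MulAut.smul_def, MulAut.conj_inv_apply, h1] using hQ' (Subgroup.mem_zpowers _)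
    obtain ⟨D, hD⟩ := exists_opp C₀
    have h1 : ρ (z : G) = 1 := unip_smul_opp_free hD hzQ (center_fixes ρ hmoves hsize z.2 D)
    have h2 : z = 1 := Subtype.ext (hinj (h1.trans ρ.map_one.symm))
    rw [h2, orderOf_one] at hz
    exact hp.one_lt.ne hz
  refine ⟨φ, hφ, fun Q => ⟨?_, fun x hx hx1 => ?_⟩⟩
  · have hq : φ 1 = (cycleRep ρ).character 1 := (hφχ 1).symm
    rw [hq, (character_unip ρ hinj C₀ (one_mem _)).2, ← hsyl Q₀, Q.card_eq_multiplicity,
      Q₀.card_eq_multiplicity, Subgroup.card_eq_card_quotient_mul_card_subgroup Z,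
      Nat.factorization_mul Nat.card_pos.ne' Nat.card_pos.ne', Finsupp.add_apply,
      Nat.factorization_eq_zero_of_not_dvd hZp, add_zero]
  · obtain ⟨h, hh⟩ := MulAction.exists_smul_eq (G ⧸ Z)
      (Q₀.mapSurjective (QuotientGroup.mk'_surjective Z)) Q
    rw [← hh] at hx
    have hx' : x ∈ MulAut.conj h • ((Q₀ : Subgroup G).map (QuotientGroup.mk' Z)) := hx
    rw [Subgroup.mem_pointwise_smul_iff_inv_smul_mem] at hx'
    obtain ⟨u, hu, hux⟩ := hx'
    obtain ⟨g, rfl⟩ := QuotientGroup.mk_surjective h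
    have hxe : x = ((g * u * g⁻¹ : G) : G ⧸ Z) := by
      have h2 : (QuotientGroup.mk' Z) u = (g : G ⧸ Z)⁻¹ * x * g := by
        rw [hux]; simp [MulAut.smul_def]
      rw [QuotientGroup.mk_mul, QuotientGroup.mk_mul, QuotientGroup.mk_inv,
        show ((u : G) : G ⧸ Z) = (g : G ⧸ Z)⁻¹ * x * g from h2]
      group
    have hu1 : u ≠ 1 := by
      rintro rfl
      apply hx1
      rw [hxe, mul_one, mul_inv_cancel]; rfl
    rw [hxe, ← hφχ, Representation.char_conj]
    exact (character_unip ρ hinj C₀ (show u ∈ unipG ρ C₀ from hQ₀ ▸ hu)).1 hu1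

end

end Cfsg.Agent.ClassicalSteinberg.Polar
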