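import Cfsg.Agent.ClassicalSteinberg.Character
import Cfsg.Agent.Char.Basic

/-!
Helpers for the instances of the Steinberg character: trivial Sylow subgroups, counts, Sylow orders.
-/

set_option autoImplicit false

namespace Cfsg.Agent.ClassicalSteinberg

open Module

universe u v w

theorem trivial_case {G : Type u} [Group G] [Finite G] (p : ℕ) [Fact p.Prime] (Z : Subgroup G) [Z.Normal]
    (h : ¬ p ∣ Nat.card G) :
    ∃ φ : G ⧸ Z → ℂ, Cfsg.IsIrrCharacter (G ⧸ Z) φ ∧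
      ∀ Q : Sylow p (G ⧸ Z), φ 1 = Nat.card Q ∧ ∀ x : G ⧸ Z, x ∈ Q → x ≠ 1 → φ x = 0 := by
  refine ⟨fun _ => 1, Char.isIrrCharacter_one, fun Q => ?_⟩
  have hc : ¬ p ∣ Nat.card (G ⧸ Z) := fun hd => h (hd.trans (Subgroup.card_quotient_dvd_card Z))
  have hQ : Nat.card Q = 1 := by
    rw [Q.card_eq_multiplicity, Nat.factorization_eq_zero_of_not_dvd hc, pow_zero]
  refine ⟨by rw [hQ, Nat.cast_one], fun x hx hx1 => absurd ?_ hx1⟩
  have := (Nat.card_eq_one_iff_unique.1 hQ).1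
  exact congrArg Subtype.val (Subsingleton.elim (⟨x, hx⟩ : (Q : Subgroup (G ⧸ Z))) 1)

theorem sylow_card {G : Type u} [Group G] [Finite G] {p q k r : ℕ} [hp : Fact p.Prime] {f N : ℕ}
    (hq : q = p ^ f) (h : k * Nat.card G = q ^ N * r) (hk : ¬ p ∣ k) (hr : ¬ p ∣ r) (Q : Sylow p G) :
    Nat.card Q = q ^ N := by
  rw [Q.card_eq_multiplicity, hq, ← pow_mul]
  congr 1
  have hk0 : k ≠ 0 := fun h0 => hk (h0 ▸ dvd_zero _)
  have hr0 : r ≠ 0 := fun h0 => hr (h0 ▸ dvd_zero _)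
  have h1 := congrArg (fun z => z.factorization p) h
  simp only [Nat.factorization_mul hk0 Nat.card_pos.ne', hq, ← pow_mul,
    Nat.factorization_mul (pow_ne_zero (f * N) hp.out.ne_zero) hr0, Finsupp.add_apply,
    hp.out.factorization_pow, Finsupp.single_eq_same,
    Nat.factorization_eq_zero_of_not_dvd hk, Nat.factorization_eq_zero_of_not_dvd hr, zero_add, add_zero] at h1
  exact h1

theorem not_dvd_pow_sub_one {p q i : ℕ} (hp : p.Prime) (hq : p ∣ q) (hq0 : q ≠ 0) (hi : i ≠ 0) :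
    ¬ p ∣ q ^ i - 1 := fun h => by
  have h2 := Nat.dvd_sub (hq.trans (dvd_pow_self q hi)) h
  rw [Nat.sub_sub_self (Nat.one_le_pow _ _ (Nat.pos_of_ne_zero hq0))] at h2
  exact hp.one_lt.ne' (Nat.dvd_one.1 h2)

theorem not_dvd_pow_add_one {p q i : ℕ} (hp : p.Prime) (hq : p ∣ q) (hi : i ≠ 0) : ¬ p ∣ q ^ i + 1 := fun h =>
  hp.one_lt.ne' (Nat.dvd_one.1 ((Nat.dvd_add_right (hq.trans (dvd_pow_self q hi))).1 h))

theorem not_dvd_prod_sq_sub_one {p q : ℕ} (hp : p.Prime) (hq : p ∣ q) (hq0 : q ≠ 0) (m : ℕ) :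
    ¬ p ∣ ∏ i ∈ Finset.range m, (q ^ (2 * (i + 1)) - 1) := fun h => by
  obtain ⟨i, -, hi⟩ := hp.prime.exists_mem_finset_dvd h
  exact not_dvd_pow_sub_one hp hq hq0 (by omega) hi

namespace Polar

variable {F : Type u} {V : Type v} [Field F] [AddCommGroup V] [Module F V] [FiniteDimensional F V]
  [Finite V] [Finite F] {P : Polar F V}

theorem card_opp_of {C : P.Chamber} {N : ℕ}
    (h : P.t ^ P.m * Nat.card F ^ (P.m * finrank F V) = N * Nat.card F ^ (P.m * (P.m + 1))) :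
    Nat.card {D : P.Chamber // Opp C D} = N :=
  Nat.eq_of_mul_eq_mul_right (pow_pos (Nat.card_pos (α := F)) _) ((card_opp C).trans h)

omit [Finite F] in
theorem two_finrank_le [Finite F] {W : Submodule F V} (hW : W ≤ P.orth W) :
    2 * finrank F W ≤ finrank F V := by
  have h := P.card_orth W
  rw [Module.natCard_eq_pow_finrank (K := F) (V := P.orth W), Module.natCard_eq_pow_finrank (K := F) (V := W),
    Module.natCard_eq_pow_finrank (K := F) (V := V), ← pow_add] at h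
  have h1 := Nat.pow_right_injective (Finite.one_lt_card (α := F)) h
  have h2 := Submodule.finrank_mono hW
  omega

end Polar

end Cfsg.Agent.ClassicalSteinberg
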