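import Cfsg.Agent.ClassicalSteinberg.Unipotent

/-!
The functions on chambers with vanishing panel sums (the top homology of the building): restriction to the
chambers opposite to a given chamber is bijective.
-/

set_option autoImplicit false

namespace Cfsg.Agent.ClassicalSteinberg.Polar

open Module

universe u v

variable {F : Type u} {V : Type v} [Field F] [AddCommGroup V] [Module F V] [FiniteDimensional F V]
  [Finite V] {P : Polar F V}

/-- Adjacency at position `i`. -/
def Adj (i : ℕ) (C C' : P.Chamber) : Prop := ∀ j ≤ P.m, j ≠ i → C.fl j = C'.fl j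

/-- The panel at position `i` of a chamber. -/
noncomputable def panel (i : ℕ) (C : P.Chamber) : Finset P.Chamber :=
  (Set.toFinite {C' | Adj i C C'}).toFinset

omit [FiniteDimensional F V] in
theorem mem_panel {i : ℕ} {C C' : P.Chamber} : C' ∈ panel i C ↔ Adj i C C' := Set.Finite.mem_toFinset _

variable (P) in
/-- The functions on chambers whose sum over every panel vanishes. -/
noncomputable def cycles : Submodule ℂ (P.Chamber → ℂ) where
  carrier := {f | ∀ i, 1 ≤ i → i ≤ P.m → ∀ C, ∑ C' ∈ panel i C, f C' = 0}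
  add_mem' {a b} ha hb i h1 h2 C := by
    simp only [Pi.add_apply, Finset.sum_add_distrib, ha i h1 h2 C, hb i h1 h2 C, add_zero]
  zero_mem' i _ _ C := by simp
  smul_mem' c a ha i h1 h2 C := by
    simp only [Pi.smul_apply, smul_eq_mul, ← Finset.mul_sum, ha i h1 h2 C, mul_zero]

/-- The chamber `C` leaves the member of dimension `k` into the `j`-th orthogonal of `C₀`. -/
def Gain (C₀ C : P.Chamber) (k j : ℕ) : Prop :=
  ∃ v ∈ C.fl (k + 1), v ∉ C.fl k ∧ v ∈ P.orth (C₀.fl j)

/-- The measure of closeness to a chamber. -/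
noncomputable def closeness (C₀ C : P.Chamber) : ℕ :=
  ∑ i ∈ Finset.range (P.m + 1), ∑ j ∈ Finset.range (P.m + 1), finrank F (C.fl i ⊓ P.orth (C₀.fl j) : Submodule F V)

omit [Finite V] in
theorem fl_succ_eq {C C' : P.Chamber} {k : ℕ} (hk : k < P.m) (he : C.fl k = C'.fl k) {v : V}
    (hv : v ∈ C.fl (k + 1)) (hv' : v ∈ C'.fl (k + 1)) (hn : v ∉ C.fl k) : C.fl (k + 1) = C'.fl (k + 1) := by
  refine Submodule.eq_of_le_of_finrank_eq (fun x hx => ?_) (by rw [C.finrank_fl hk, C'.finrank_fl hk])
  obtain ⟨c, hc⟩ := C.eq_of_le (C.fl_mono k.le_succ) (C.finrank_fl hk).le hv hn hk hx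
  rw [← sub_add_cancel x (c • v)]
  exact add_mem (C'.fl_mono k.le_succ (he ▸ hc)) (Submodule.smul_mem _ _ hv')

omit [Finite V] in
theorem eq_of_panel {C C' : P.Chamber} {k : ℕ} (hk : k < P.m) (h : Adj (k + 1) C C') {v : V}
    (hv : v ∈ C.fl (k + 1)) (hv' : v ∈ C'.fl (k + 1)) (hn : v ∉ C.fl k) : C' = C := by
  refine Chamber.ext fun i hi => ?_
  by_cases hik : i = k + 1
  · subst hik
    exact (fl_succ_eq hk (h k hk.le (by omega)) hv hv' hn).symm
  · exact (h i hi hik).symm

omit [Finite V] in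
theorem mem_of_perp (C : P.Chamber) {x : V} (hx : P.Sing x) (h : x ∈ P.orth (C.fl P.m)) :
    x ∈ C.fl P.m := by
  by_contra hn
  have hts : P.TS (Submodule.span F (insert x (C.fl P.m : Set V))) := by
    refine P.ts_span ?_ ?_
    · rintro y (rfl | hy)
      exacts [hx, C.fl_sing hy]
    · rintro y (rfl | hy) z (rfl | hz)
      · exact P.sing_self _ hx
      · exact P.swap_zero (h z hz)
      · exact h y hy
      · exact C.fl_B hy hz
  have hlt : C.fl P.m < Submodule.span F (insert x (C.fl P.m : Set V)) :=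
    lt_of_le_of_ne (fun y hy => Submodule.subset_span (Set.mem_insert_of_mem _ hy))
      fun he => hn (he ▸ Submodule.subset_span (Set.mem_insert _ _))
  have h1 := Submodule.finrank_lt_finrank_of_lt hlt
  have h2 := P.rank_le _ hts
  rw [C.finrank_fl le_rfl] at h1
  omega

omit [Finite V] in
theorem closeness_lt {C₀ C C' : P.Chamber} {k j₀ : ℕ} (hk : k < P.m) (hj₀ : j₀ ≤ P.m)
    (hadj : Adj (k + 1) C C') (hC : Gain C₀ C k j₀) (hC' : ¬ Gain C₀ C' k j₀)
    (hsub : ∀ j ≤ P.m, Gain C₀ C' k j → Gain C₀ C k j) : closeness C₀ C' < closeness C₀ C := by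
  have hek : C'.fl k = C.fl k := (hadj k hk.le (by omega)).symm
  have hno : ∀ j, ¬ Gain C₀ C' k j →
      C'.fl (k + 1) ⊓ P.orth (C₀.fl j) ≤ C.fl k ⊓ P.orth (C₀.fl j) := fun j hj x hx =>
    ⟨hek ▸ by_contra fun hn => hj ⟨x, hx.1, hn, hx.2⟩, hx.2⟩
  have hyes : ∀ j, Gain C₀ C k j →
      finrank F (C.fl k ⊓ P.orth (C₀.fl j) : Submodule F V) <
        finrank F (C.fl (k + 1) ⊓ P.orth (C₀.fl j) : Submodule F V) := fun j ⟨v, hv, hn, hvo⟩ => by
    refine Submodule.finrank_lt_finrank_of_lt (lt_of_le_of_ne (inf_le_inf_right _ (C.fl_mono k.le_succ)) ?_)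
    intro he
    have : v ∈ C.fl (k + 1) ⊓ P.orth (C₀.fl j) := ⟨hv, hvo⟩
    rw [← he] at this
    exact hn this.1
  have hone : ∀ j, finrank F (C'.fl (k + 1) ⊓ P.orth (C₀.fl j) : Submodule F V) ≤
      finrank F (C.fl k ⊓ P.orth (C₀.fl j) : Submodule F V) + 1 := fun j => by
    have h1 := Submodule.finrank_sup_add_finrank_inf_eq (C'.fl (k + 1) ⊓ P.orth (C₀.fl j)) (C'.fl k)
    have h2 : (C'.fl (k + 1) ⊓ P.orth (C₀.fl j)) ⊓ C'.fl k = C.fl k ⊓ P.orth (C₀.fl j) := by
      rw [← hek, inf_right_comm, inf_eq_right.2 (C'.fl_mono k.le_succ)]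
    have h3 : finrank F ((C'.fl (k + 1) ⊓ P.orth (C₀.fl j)) ⊔ C'.fl k : Submodule F V) ≤ k + 1 := by
      exact (Submodule.finrank_mono (sup_le inf_le_left (C'.fl_mono k.le_succ))).trans (C'.finrank_fl hk).le
    rw [h2, C'.finrank_fl hk.le] at h1
    omega
  refine Finset.sum_lt_sum (fun i hi => ?_) ⟨k + 1, Finset.mem_range.2 (by omega), ?_⟩
  · by_cases hik : i = k + 1
    · subst hik
      refine Finset.sum_le_sum fun j hj => ?_
      rw [Finset.mem_range] at hj
      by_cases hg : Gain C₀ C' k j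
      · have := hyes j (hsub j (by omega) hg)
        have := hone j
        omega
      · exact (Submodule.finrank_mono ((hno j hg).trans (inf_le_inf_right _ (C.fl_mono k.le_succ))))
    · rw [Finset.mem_range] at hi
      rw [hadj i (by omega) hik]
  · refine Finset.sum_lt_sum (fun j hj => ?_) ⟨j₀, Finset.mem_range.2 (by omega), ?_⟩
    · rw [Finset.mem_range] at hj
      by_cases hg : Gain C₀ C' k j
      · have := hyes j (hsub j (by omega) hg)
        have := hone j
        omega
      · exact (Submodule.finrank_mono ((hno j hg).trans (inf_le_inf_right _ (C.fl_mono k.le_succ))))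
    · exact lt_of_le_of_lt (Submodule.finrank_mono (hno j₀ hC')) (hyes j₀ hC)

omit [Finite V] in
omit [FiniteDimensional F V] in
theorem Gain.anti {C₀ C : P.Chamber} {k i j : ℕ} (h : Gain C₀ C k j) (hij : i ≤ j) : Gain C₀ C k i :=
  let ⟨v, hv, hn, ho⟩ := h
  ⟨v, hv, hn, P.orth_anti (C₀.fl_mono hij) ho⟩

theorem exists_closest_panel (C₀ : P.Chamber) {C : P.Chamber} (hC : ¬ Opp C₀ C) :
    ∃ i, 1 ≤ i ∧ i ≤ P.m ∧ ∀ C' ∈ panel i C, C' ≠ C → closeness C₀ C' < closeness C₀ C := by
  by_cases hA : ∃ k j, k + 1 < P.m ∧ j ≤ P.m ∧ Gain C₀ C k j ∧ ¬ Gain C₀ C (k + 1) j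
  · obtain ⟨k, j, hk, hj, hG, hN⟩ := hA
    refine ⟨k + 1, by omega, by omega, fun C' hC' hne => ?_⟩
    rw [mem_panel] at hC'
    have hkey : ∀ j', Gain C₀ C' k j' → j' < j := fun j' ⟨v, hv, hn, ho⟩ => by
      by_contra hle
      have hv2 : v ∈ C.fl (k + 2) := by
        rw [hC' (k + 2) (by omega) (by omega)]; exact C'.fl_mono (k + 1).le_succ hv
      have hv1 : v ∈ C.fl (k + 1) := by_contra fun hn1 =>
        hN ⟨v, hv2, hn1, P.orth_anti (C₀.fl_mono (le_of_not_gt hle)) ho⟩
      exact hne (eq_of_panel (by omega) hC' hv1 hv (by rw [hC' k (by omega) (by omega)]; exact hn))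
    exact closeness_lt (by omega) hj hC' hG (fun h => lt_irrefl j (hkey j h))
      fun j' _ h => hG.anti (hkey j' h).le
  push Not at hA
  by_cases hB : 1 ≤ P.m ∧ Gain C₀ C (P.m - 1) P.m
  · obtain ⟨hm, hG⟩ := hB
    refine ⟨P.m, hm, le_rfl, fun C' hC' hne => ?_⟩
    obtain ⟨n, hn⟩ : ∃ n, P.m = n + 1 := ⟨P.m - 1, by omega⟩
    rw [show P.m - 1 = n by omega] at hG
    rw [mem_panel, hn] at hC'
    refine closeness_lt (k := n) (j₀ := P.m) (by omega) le_rfl hC' hG ?_ fun j' hj' _ => hG.anti hj'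
    rintro ⟨w, hw, hwn, hwo⟩
    obtain ⟨v, hv, hvn, hvo⟩ := hG
    have hw0 := mem_of_perp C₀ (C'.fl_sing hw) hwo
    have hv0 := mem_of_perp C₀ (C.fl_sing hv) hvo
    have hwn' : w ∉ C.fl n := by rw [hC' n (by omega) (by omega)]; exact hwn
    have hwC : w ∈ C.fl P.m := by
      refine mem_of_perp C (C'.fl_sing hw) fun u hu => ?_
      rw [hn] at hu
      obtain ⟨c, hc⟩ := C.eq_of_le (C.fl_mono n.le_succ) (C.finrank_fl (by omega)).le hv hvn (by omega) hu
      rw [hC' n (by omega) (by omega)] at hc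
      rw [show u = (u - c • v) + c • v by abel, B_add_left, C'.fl_B hc hw, B_smul_left, C₀.fl_B hv0 hw0,
        mul_zero, add_zero]
    rw [hn] at hwC
    exact hne (eq_of_panel (by omega) hC' hwC hw hwn')
  refine absurd (fun i hi => ?_) hC
  have hQ : ∀ d k, k + d + 1 = P.m → ¬ Gain C₀ C k (k + 1) := by
    intro d
    induction d with
    | zero =>
      intro k hk hG
      exact hB ⟨by omega, by rwa [show P.m - 1 = k by omega, show P.m = k + 1 by omega]⟩
    | succ d ih =>
      intro k hk hG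
      have hG2 := hA k (k + 1) (by omega) (by omega) hG
      obtain ⟨v, hv, hvn, hvo⟩ := hG
      obtain ⟨w, hw, hwn, hwo⟩ := hG2
      have hup : ∀ x, x ∈ P.orth (C₀.fl (k + 1)) → P.B (C₀.base (k + 1)) x = 0 → x ∈ P.orth (C₀.fl (k + 2)) :=
        fun x hx hb => C₀.mem_orth_fl (by omega) fun j hj => by
          rcases Nat.lt_succ_iff_lt_or_eq.1 hj with h | h
          · exact hx _ (C₀.fl_mono h (C₀.base_mem (by omega)))
          · rw [h]; exact hb
      by_cases hbv : P.B (C₀.base (k + 1)) v = 0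
      · exact ih (k + 1) (by omega) (hA k (k + 2) (by omega) (by omega) ⟨v, hv, hvn, hup v hvo hbv⟩)
      refine ih (k + 1) (by omega)
        ⟨w - (P.B (C₀.base (k + 1)) w / P.B (C₀.base (k + 1)) v) • v, ?_, ?_, hup _ ?_ ?_⟩
      · exact sub_mem hw (Submodule.smul_mem _ _ (C.fl_mono (k + 1).le_succ hv))
      · intro h
        exact hwn (by simpa using add_mem h (Submodule.smul_mem _ (P.B (C₀.base (k + 1)) w / P.B (C₀.base (k + 1)) v) hv))
      · exact sub_mem hwo (Submodule.smul_mem _ _ hvo)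
      · rw [map_sub, B_smul_right, div_mul_cancel₀ _ hbv, sub_self]
  rw [Submodule.eq_bot_iff]
  rintro x ⟨hx1, hx2⟩
  by_contra hx0
  classical
  have hex : ∃ l, x ∈ C.fl l := ⟨i, hx1⟩
  have hle := Nat.find_le (h := hex) hx1
  have hspec := Nat.find_spec hex
  obtain ⟨k, hk⟩ : ∃ k, Nat.find hex = k + 1 := by
    refine ⟨Nat.find hex - 1, ?_⟩
    have : Nat.find hex ≠ 0 := fun h => by
      rw [h, C.fl_zero, Submodule.mem_bot] at hspec
      exact hx0 hspec
    omega
  exact hQ (P.m - k - 1) k (by omega) ⟨x, hk ▸ hspec, Nat.find_min hex (by omega),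
    P.orth_anti (C₀.fl_mono (by omega)) hx2⟩

/-- A cycle vanishing on the chambers opposite to `C₀` is zero. -/
theorem cycle_eq_zero {C₀ : P.Chamber} {f : P.Chamber → ℂ} (hf : f ∈ P.cycles)
    (h0 : ∀ C, Opp C₀ C → f C = 0) : f = 0 := by
  suffices ∀ n C, closeness C₀ C = n → f C = 0 from funext fun C => this _ C rfl
  intro n
  induction n using Nat.strong_induction_on with
  | _ n ih =>
    intro C hn
    by_cases hC : Opp C₀ C
    · exact h0 C hC
    obtain ⟨i, hi1, hi2, hi⟩ := exists_closest_panel C₀ hC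
    have := hf i hi1 hi2 C
    rwa [Finset.sum_eq_single C (fun C' hC' hne => ih _ (hn ▸ hi C' hC' hne) C' rfl)
      (fun h => absurd (mem_panel.2 fun _ _ _ => rfl) h)] at this

/-- The chamber spanned by orthogonal singular independent vectors. -/
noncomputable def flagOf (y : Fin P.m → V) (hs : ∀ i, P.Sing (y i)) (hp : ∀ i j, P.B (y i) (y j) = 0)
    (hli : LinearIndependent F y) : P.Chamber :=
  ⟨fun i => Submodule.span F (Set.range (y ∘ Fin.castLE (Nat.le_of_lt_succ i.2))),
    fun i => by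
      exact (finrank_span_eq_card (hli.comp _ (Fin.castLE_injective _))).trans (Fintype.card_fin _),
    fun i => P.ts_span (by rintro _ ⟨j, rfl⟩; exact hs _) (by rintro _ ⟨j, rfl⟩ _ ⟨l, rfl⟩; exact hp _ _),
    fun i j hij => Submodule.span_mono (by
      rintro _ ⟨l, rfl⟩
      exact ⟨Fin.castLE (Fin.le_def.1 hij) l, rfl⟩)⟩

omit [FiniteDimensional F V] [Finite V] in
theorem flagOf_fl (y : Fin P.m → V) (hs : ∀ i, P.Sing (y i)) (hp : ∀ i j, P.B (y i) (y j) = 0)
    (hli : LinearIndependent F y) {i : ℕ} (hi : i ≤ P.m) :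
    (flagOf y hs hp hli).fl i = Submodule.span F (y '' {j | j.val < i}) := by
  show Submodule.span F (Set.range _) = _
  congr 1
  ext x
  constructor
  · rintro ⟨j, rfl⟩
    refine ⟨_, ?_, rfl⟩
    have := j.2
    simp only [Set.mem_ofPred_eq, Fin.val_castLE]
    simp only at this
    omega
  · rintro ⟨j, hj, rfl⟩
    exact ⟨⟨j.val, by simp only; exact lt_min hj j.2⟩, rfl⟩

/-- The signed permutations of a frame. -/
abbrev SPerm (m : ℕ) : Type := Equiv.Perm (Fin m) × (Fin m → Bool)

/-- The sign of a signed permutation. -/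
def sgn {m : ℕ} (w : SPerm m) : ℂ := ((Equiv.Perm.sign w.1 : ℤ) : ℂ) * ∏ k, if w.2 k then 1 else -1

theorem sgn_ne_zero {m : ℕ} (w : SPerm m) : sgn w ≠ 0 := by
  refine mul_ne_zero (Int.cast_ne_zero.2 (Equiv.Perm.sign w.1).ne_zero)
    (Finset.prod_ne_zero_iff.2 fun k _ => ?_)
  split_ifs <;> norm_num

theorem sum_eq_zero_of_neg {α : Type*} [Fintype α] (e : α ≃ α) (g : α → ℂ) (h : ∀ x, g (e x) = -g x) :
    ∑ x, g x = 0 := by
  have h1 : ∑ x, g x = -∑ x, g x := by
    rw [← Finset.sum_neg_distrib]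
    conv_lhs => rw [← e.sum_comp g]
    exact Finset.sum_congr rfl fun x _ => h x
  linear_combination h1 / 2

/-- For every chamber opposite to `C₀` some cycle is supported, among those, on it alone. -/
theorem exists_cycle {C₀ D₀ : P.Chamber} (hD₀ : Opp C₀ D₀) :
    ∃ a ∈ P.cycles, a D₀ ≠ 0 ∧ ∀ D, Opp C₀ D → D ≠ D₀ → a D = 0 := by
  classical
  obtain ⟨f, hf, hfD⟩ := hD₀.exists_part
  obtain ⟨e, he⟩ := hf.exists_dual
  have hem : ∀ l, e l ∈ C₀.fl P.m := fun l => C₀.fl_mono l.2 (he l).1
  set xv : Fin P.m → Bool → V := fun j b => if b then e j else f j with hxv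
  have hsing : ∀ j b, P.Sing (xv j b) := fun j b => by
    cases b
    exacts [hf.sing j, C₀.fl_sing (he j).1]
  have hzero : ∀ j b l c, (j ≠ l ∨ b = c) → P.B (xv j b) (xv l c) = 0 := by
    intro j b l c h
    cases b <;> cases c
    · exact hf.perp j l
    · exact P.swap_zero (((he l).2.2 j).trans (if_neg (h.resolve_right (by decide))))
    · exact ((he j).2.2 l).trans (if_neg (Ne.symm (h.resolve_right (by decide))))
    · exact C₀.fl_B (hem j) (hem l)
  have hpair : ∀ j b, P.B (xv j (!b)) (xv j b) ≠ 0 := by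
    intro j b
    cases b
    · show P.B (e j) (f j) ≠ 0
      rw [(he j).2.2 j, if_pos rfl]; exact one_ne_zero
    · show P.B (f j) (e j) ≠ 0
      rw [P.swap_one (by rw [(he j).2.2 j, if_pos rfl])]; exact P.ε_ne
  let y : SPerm P.m → Fin P.m → V := fun w k => xv (w.1 k) (w.2 k)
  have hyp : ∀ w i j, P.B (y w i) (y w j) = 0 := fun w i j => by
    refine hzero _ _ _ _ ?_
    by_cases hij : i = j
    · exact Or.inr (by rw [hij])
    · exact Or.inl fun h => hij (w.1.injective h)
  have hyl : ∀ w, LinearIndependent F (y w) := fun w => Fintype.linearIndependent_iff.2 fun c hc i => by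
    have h0 : P.B (xv (w.1 i) (!w.2 i)) (∑ j, c j • y w j) = 0 := by rw [hc, map_zero]
    rw [map_sum, Finset.sum_eq_single i] at h0
    · rw [B_smul_right] at h0
      exact (mul_eq_zero.1 h0).resolve_right (hpair _ _)
    · intro j _ hji
      rw [B_smul_right, hzero _ _ _ _ (Or.inl fun h => hji (w.1.injective h).symm), mul_zero]
    · simp
  let K : SPerm P.m → P.Chamber := fun w => flagOf (y w) (fun k => hsing _ _) (hyp w) (hyl w)
  have hK : ∀ w i, i ≤ P.m → (K w).fl i = Submodule.span F (y w '' {j | j.val < i}) := fun w i hi =>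
    flagOf_fl _ _ _ _ hi
  set a : P.Chamber → ℂ := fun C => ∑ w, if K w = C then sgn w else 0 with ha
  have huniq : ∀ w, Opp C₀ (K w) → w = (1, fun _ => false) := by
    intro w hw
    have key : ∀ k, w.2 k = false ∧ (w.1 k).val ≤ k.val := by
      intro k
      have hne : y w k ≠ 0 := (hyl w).ne_zero k
      have hmem : y w k ∈ (K w).fl (k.val + 1) := by
        rw [hK w _ k.2]
        exact Submodule.subset_span ⟨k, show k.val < k.val + 1 by omega, rfl⟩
      have hnot : y w k ∉ P.orth (C₀.fl (k.val + 1)) := fun h => hne (by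
        have : y w k ∈ (K w).fl (k.val + 1) ⊓ P.orth (C₀.fl (k.val + 1)) := ⟨hmem, h⟩
        rwa [hw _ k.2, Submodule.mem_bot] at this)
      cases hb : w.2 k
      · refine ⟨rfl, ?_⟩
        by_contra hlt
        apply hnot
        have : y w k = f (w.1 k) := by simp [y, hxv, hb]
        rw [this]
        exact P.orth_anti (C₀.fl_mono (by omega)) (hf.mem_orth _)
      · exfalso
        apply hnot
        have : y w k = e (w.1 k) := by simp [y, hxv, hb]
        rw [this]
        exact fun u hu => C₀.fl_B hu (hem _)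
    have hπ : w.1 = 1 := by
      refine Equiv.ext fun k => ?_
      induction k using WellFoundedLT.induction with
      | _ k ih =>
        rcases eq_or_lt_of_le (key k).2 with h | h
        · exact Fin.ext h
        · have := ih (w.1 k) h
          exact w.1.injective (by simpa using this)
    exact Prod.ext hπ (funext fun k => (key k).1)
  have hKD : K (1, fun _ => false) = D₀ := by
    refine Eq.trans (Chamber.ext fun i hi => ?_) (hf.chamber_eq hfD)
    rw [hK _ i hi, hf.chamber_fl hi]
    rfl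
  have hcycle : a ∈ P.cycles := by
    intro i hi1 hi2 C
    have h0 : ∑ C' ∈ panel i C, a C' = ∑ w, if Adj i C (K w) then sgn w else 0 := by
      rw [Finset.sum_comm]
      refine Finset.sum_congr rfl fun w _ => ?_
      rw [Finset.sum_ite_eq (panel i C) (K w)]
      simp only [mem_panel]
    rw [h0]
    obtain ⟨k, rfl⟩ : ∃ k, i = k + 1 := ⟨i - 1, by omega⟩
    have hcong : ∀ w w', (∀ j ≤ P.m, j ≠ k + 1 → (K w).fl j = (K w').fl j) →
        (Adj (k + 1) C (K w) ↔ Adj (k + 1) C (K w')) := fun w w' h =>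
      ⟨fun hw j hj hne => (hw j hj hne).trans (h j hj hne),
       fun hw j hj hne => (hw j hj hne).trans (h j hj hne).symm⟩
    by_cases hkm : k + 1 < P.m
    · let a₁ : Fin P.m := ⟨k, by omega⟩
      let b₁ : Fin P.m := ⟨k + 1, hkm⟩
      let σ : Equiv.Perm (Fin P.m) := Equiv.swap a₁ b₁
      let ι : SPerm P.m ≃ SPerm P.m :=
        { toFun := fun w => (w.1 * σ, w.2 ∘ σ)
          invFun := fun w => (w.1 * σ, w.2 ∘ σ)
          left_inv := fun w => Prod.ext (by simp [σ, mul_assoc]) (funext fun x => by simp [σ])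
          right_inv := fun w => Prod.ext (by simp [σ, mul_assoc]) (funext fun x => by simp [σ]) }
      refine sum_eq_zero_of_neg ι _ fun w => ?_
      have hs : sgn (ι w) = -sgn w := by
        show ((Equiv.Perm.sign (w.1 * σ) : ℤ) : ℂ) * _ = _
        rw [show (∏ x, if (ι w).2 x then (1 : ℂ) else -1) = ∏ x, if w.2 x then (1 : ℂ) else -1 from
          Equiv.prod_comp σ fun x => if w.2 x then (1 : ℂ) else -1]
        rw [map_mul, Equiv.Perm.sign_swap (show a₁ ≠ b₁ by simp [a₁, b₁, Fin.ext_iff])]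
        simp [sgn]
      have hiff : Adj (k + 1) C (K (ι w)) ↔ Adj (k + 1) C (K w) := by
        refine hcong _ _ fun j hj hne => ?_
        rw [hK _ j hj, hK _ j hj]
        congr 1
        have hy' : ∀ x, y (ι w) x = y w (σ x) := fun x => rfl
        have hσ : ∀ x : Fin P.m, x.val < j → (σ x).val < j := fun x hx => by
          simp only [σ, Equiv.swap_apply_def, a₁, b₁]
          split_ifs with h1 h2
          · simp only [Fin.ext_iff] at h1; simp only; omega
          · simp only [Fin.ext_iff] at h2; simp only; omega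
          · exact hx
        ext v
        constructor
        · rintro ⟨x, hx, rfl⟩
          exact ⟨σ x, hσ x hx, (hy' x).symm⟩
        · rintro ⟨x, hx, rfl⟩
          exact ⟨σ x, hσ x hx, by rw [hy']; simp [σ]⟩
      simp only [hiff]
      split_ifs
      · exact hs
      · exact neg_zero.symm
    · have hk : k + 1 = P.m := by omega
      let a₁ : Fin P.m := ⟨k, by omega⟩
      let ι : SPerm P.m ≃ SPerm P.m :=
        { toFun := fun w => (w.1, Function.update w.2 a₁ (!w.2 a₁))
          invFun := fun w => (w.1, Function.update w.2 a₁ (!w.2 a₁))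
          left_inv := fun w => Prod.ext rfl (by simp)
          right_inv := fun w => Prod.ext rfl (by simp) }
      refine sum_eq_zero_of_neg ι _ fun w => ?_
      have hs : sgn (ι w) = -sgn w := by
        simp only [sgn, ι, Equiv.coe_fn_mk]
        rw [← Finset.mul_prod_erase _ _ (Finset.mem_univ a₁), ← Finset.mul_prod_erase _ _ (Finset.mem_univ a₁),
          Finset.prod_congr rfl (g := fun x => if w.2 x then (1 : ℂ) else -1) fun x hx => by
            simp [Function.update_of_ne (Finset.ne_of_mem_erase hx)]]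
        simp only [Function.update_self]
        cases w.2 a₁ <;> simp
      have hiff : Adj (k + 1) C (K (ι w)) ↔ Adj (k + 1) C (K w) := by
        refine hcong _ _ fun j hj hne => ?_
        rw [hK _ j hj, hK _ j hj]
        congr 1
        refine Set.image_congr fun x hx => ?_
        have hxa : x ≠ a₁ := fun h => by
          rw [h] at hx
          have hx' : k < j := hx
          omega
        show xv _ (Function.update w.2 a₁ (!w.2 a₁) x) = _
        rw [Function.update_of_ne hxa]
        rfl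
      simp only [hiff]
      split_ifs
      · exact hs
      · exact neg_zero.symm
  refine ⟨a, hcycle, ?_, fun D hD hne => ?_⟩
  · rw [ha]
    show (∑ w, if K w = D₀ then sgn w else 0) ≠ 0
    rw [Finset.sum_eq_single (1, fun _ => false), if_pos hKD]
    · exact sgn_ne_zero _
    · intro w _ hw
      exact if_neg fun h => hw (huniq w (by rw [h]; exact hD₀))
    · simp
  · refine Finset.sum_eq_zero fun w _ => if_neg fun h => hne ?_
    rw [← h, huniq w (by rw [h]; exact hD), hKD]

/-- Restriction of cycles to the chambers opposite to `C₀`. -/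
noncomputable def resOpp (C₀ : P.Chamber) : P.cycles →ₗ[ℂ] ({D : P.Chamber // Opp C₀ D} → ℂ) where
  toFun a D := a.1 D.1
  map_add' _ _ := rfl
  map_smul' _ _ := rfl

theorem resOpp_bijective (C₀ : P.Chamber) : Function.Bijective (resOpp C₀) := by
  classical
  refine ⟨(injective_iff_map_eq_zero _).2 fun a ha => Subtype.ext (cycle_eq_zero (C₀ := C₀) a.2
    fun D hD => congrFun ha ⟨D, hD⟩), LinearMap.range_eq_top.1 (eq_top_iff.2 fun g _ => ?_)⟩
  have : Fintype {D : P.Chamber // Opp C₀ D} := Fintype.ofFinite _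
  rw [pi_eq_sum_univ g]
  refine Submodule.sum_mem _ fun D _ => Submodule.smul_mem _ _ ?_
  obtain ⟨a, ha, ha0, hz⟩ := exists_cycle D.2
  refine ⟨(a D.1)⁻¹ • ⟨a, ha⟩, funext fun E => ?_⟩
  show (a D.1)⁻¹ * a E.1 = _
  by_cases h : D = E
  · subst h
    rw [inv_mul_cancel₀ ha0]; simp
  · rw [hz E.1 E.2 fun e => h (Subtype.ext e.symm), mul_zero]; simp [h]

end Cfsg.Agent.ClassicalSteinberg.Polar
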