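import Cfsg.Agent.ClassicalSteinberg.Polar

/-!
Frames relative to a chamber: the chambers opposite to a chamber correspond to the tuples of singular
vectors dual to its base; their number.
-/

set_option autoImplicit false

namespace Cfsg.Agent.ClassicalSteinberg.Polar

open Module

universe u v

variable {F : Type u} {V : Type v} [Field F] [AddCommGroup V] [Module F V] [FiniteDimensional F V]
  {P : Polar F V}

/-- A partial frame opposite to a chamber. -/
structure Part (C : P.Chamber) {k : ℕ} (f : Fin k → V) : Prop where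
  le : k ≤ P.m
  sing : ∀ i, P.Sing (f i)
  perp : ∀ i j, P.B (f i) (f j) = 0
  pair : ∀ i j, i ≤ j → P.B (C.base i.val) (f j) = if i = j then 1 else 0

namespace Part

variable {C : P.Chamber} {k : ℕ} {f : Fin k → V} (h : Part C f)
include h

omit [FiniteDimensional F V] in
theorem castLE {l : ℕ} (hl : l ≤ k) : Part C (f ∘ Fin.castLE hl) where
  le := hl.trans h.le
  sing _ := h.sing _
  perp _ _ := h.perp _ _
  pair i j hij := by
    have := h.pair (Fin.castLE hl i) (Fin.castLE hl j) hij
    simpa [Fin.castLE_inj] using this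

theorem mem_orth (j : Fin k) : f j ∈ P.orth (C.fl j.val) := by
  refine C.mem_orth_fl (by have := h.le; omega) fun i hi => ?_
  have := h.pair ⟨i, by omega⟩ j (le_of_lt hi)
  simpa [Fin.ext_iff, (ne_of_lt hi)] using this

omit [FiniteDimensional F V] in
theorem pair_self (j : Fin k) : P.B (C.base j.val) (f j) = 1 := by simpa using h.pair j j le_rfl

omit [FiniteDimensional F V] in
theorem eq_zero_of_span {x : V} (hx : x ∈ Submodule.span F (Set.range f))
    (hx' : ∀ i < k, P.B (C.base i) x = 0) : x = 0 := by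
  classical
  obtain ⟨c, rfl⟩ := (Submodule.mem_span_range_iff_exists_fun F).1 hx
  suffices hc : ∀ i : Fin k, c i = 0 by simp [hc]
  intro i
  induction i using WellFoundedLT.induction with
  | _ i ih =>
    have h0 := hx' i.val i.2
    rw [map_sum, Finset.sum_eq_single i] at h0
    · simpa [B_smul_right, h.pair_self] using h0
    · intro j _ hji
      rcases lt_or_gt_of_ne hji with hlt | hgt
      · rw [ih j hlt, zero_smul, map_zero]
      · rw [B_smul_right, h.pair i j hgt.le, if_neg hji.symm, mul_zero]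
    · simp

theorem eq_zero_of_span_orth {x : V} (hx : x ∈ Submodule.span F (Set.range f))
    (hx' : x ∈ P.orth (C.fl k)) : x = 0 :=
  h.eq_zero_of_span hx fun i hi => hx' _ (C.fl_mono hi (C.base_mem (by have := h.le; omega)))

omit [FiniteDimensional F V] in
theorem linearIndependent : LinearIndependent F f := by
  classical
  refine Fintype.linearIndependent_iff.2 fun c hc i => ?_
  induction i using WellFoundedLT.induction with
  | _ i ih =>
    have h0 : P.B (C.base i.val) (∑ j, c j • f j) = 0 := by rw [hc, map_zero]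
    rw [map_sum, Finset.sum_eq_single i] at h0
    · simpa [B_smul_right, h.pair_self] using h0
    · intro j _ hji
      rcases lt_or_gt_of_ne hji with hlt | hgt
      · rw [ih j hlt, zero_smul, map_zero]
      · rw [B_smul_right, h.pair i j hgt.le, if_neg hji.symm, mul_zero]
    · simp

omit h in
theorem exists_corr : ∀ {k : ℕ} {f : Fin k → V}, Part C f → ∀ x : V,
    ∃ y ∈ C.fl k, ∀ i, P.B (f i) (x - y) = 0 := by
  intro k
  induction k with
  | zero => exact fun {f} _ x => ⟨0, zero_mem _, fun i => i.elim0⟩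
  | succ k ih =>
    intro f h x
    have hi := h.castLE k.le_succ
    have hk : k < P.m := h.le
    obtain ⟨y₀, hy₀, hy₀'⟩ := ih hi x
    obtain ⟨y₁, hy₁, hy₁'⟩ := ih hi (C.base k)
    have hmem : C.base k - y₁ ∈ C.fl (k + 1) :=
      sub_mem (C.base_mem hk) (C.fl_mono k.le_succ hy₁)
    have hlast : P.B (f (Fin.last k)) (C.base k - y₁) = P.ε := by
      have e1 : P.B (C.base k) (f (Fin.last k)) = 1 := h.pair_self (Fin.last k)
      rw [map_sub, P.swap_one e1, P.swap_zero (h.mem_orth (Fin.last k) y₁ hy₁), sub_zero]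
    set c := P.ε * P.B (f (Fin.last k)) (x - y₀) with hc
    refine ⟨y₀ + c • (C.base k - y₁), add_mem (C.fl_mono k.le_succ hy₀) (Submodule.smul_mem _ _ hmem),
      fun i => ?_⟩
    rw [show x - (y₀ + c • (C.base k - y₁)) = (x - y₀) - c • (C.base k - y₁) by abel, map_sub,
      B_smul_right]
    induction i using Fin.lastCases with
    | last => rw [hlast, hc, mul_right_comm, P.εε, one_mul, sub_self]
    | cast i =>
      have h0 : P.B (f i.castSucc) (x - y₀) = 0 := hy₀' i
      have h1 : P.B (f i.castSucc) (C.base k - y₁) = 0 := hy₁' i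
      rw [h0, h1, mul_zero, sub_zero]

/-- The vector of the chamber dual to the last member of a partial frame. -/
theorem exists_top (hk : k < P.m) :
    ∃ e ∈ C.fl (k + 1), e - C.base k ∈ C.fl k ∧ ∀ i, P.B (f i) e = 0 := by
  obtain ⟨y, hy, hy'⟩ := exists_corr h (C.base k)
  exact ⟨C.base k - y, sub_mem (C.base_mem hk) (C.fl_mono k.le_succ hy),
    by rw [sub_sub_cancel_left]; exact neg_mem hy, hy'⟩

/-- The dual vectors of a frame. -/
theorem exists_dual : ∃ e : Fin k → V, ∀ l : Fin k, e l ∈ C.fl (l.val + 1) ∧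
    e l - C.base l.val ∈ C.fl l.val ∧ ∀ i, P.B (e l) (f i) = if i = l then 1 else 0 := by
  suffices ∀ l : Fin k, ∃ e : V, e ∈ C.fl (l.val + 1) ∧
      e - C.base l.val ∈ C.fl l.val ∧ ∀ i, P.B e (f i) = if i = l then 1 else 0 by
    choose e he using this
    exact ⟨e, he⟩
  intro l
  obtain ⟨e, he, he', he''⟩ := (h.castLE l.2.le).exists_top (lt_of_lt_of_le l.2 h.le)
  refine ⟨e, he, he', fun i => ?_⟩
  rcases lt_trichotomy i l with hlt | heq | hgt
  · have h0 : P.B (f i) e = 0 := he'' ⟨i.val, hlt⟩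
    rw [if_neg hlt.ne, P.swap_zero h0]
  · subst heq
    rw [if_pos rfl, show e = C.base i.val + (e - C.base i.val) by abel, B_add_left, h.pair_self,
      h.mem_orth i _ he', add_zero]
  · rw [if_neg hgt.ne', h.mem_orth i _ (C.fl_mono (Nat.succ_le_of_lt hgt) he)]

omit h in
theorem eq_zero_of_pair : ∀ {k : ℕ} {f : Fin k → V}, Part C f → ∀ x ∈ C.fl k,
    (∀ i, P.B (f i) x = 0) → x = 0 := by
  intro k
  induction k with
  | zero => intro f _ x hx _; rwa [C.fl_zero, Submodule.mem_bot] at hx
  | succ k ih =>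
    intro f h x hx hf
    obtain ⟨c, hc⟩ := C.mem_succ h.le hx
    have hlast := hf (Fin.last k)
    have e1 : P.B (C.base k) (f (Fin.last k)) = 1 := h.pair_self (Fin.last k)
    have hor : P.B (x - c • C.base k) (f (Fin.last k)) = 0 := h.mem_orth (Fin.last k) _ hc
    rw [show x = (x - c • C.base k) + c • C.base k by abel, map_add, B_smul_right, P.swap_one e1,
      P.swap_zero hor, zero_add] at hlast
    have hc0 : c = 0 := (mul_eq_zero.1 hlast).resolve_right P.ε_ne
    rw [hc0, zero_smul, sub_zero] at hc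
    exact ih (h.castLE k.le_succ) x hc fun i => hf _

end Part

/-- Partial frames of length `k`. -/
def Parts (C : P.Chamber) (k : ℕ) : Type v := {f : Fin k → V // Part C f}

/-- The possible next members of a partial frame. -/
def Next (C : P.Chamber) {k : ℕ} (f : Fin k → V) : Type v :=
  {v : V // P.Sing v ∧ (∀ i, P.B (f i) v = 0) ∧ ∀ j ≤ k, P.B (C.base j) v = if j = k then 1 else 0}

omit [FiniteDimensional F V] in
theorem Part.snoc {C : P.Chamber} {k : ℕ} {f : Fin k → V} (h : Part C f) (hk : k < P.m) (v : Next C f) :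
    Part C (Fin.snoc f v.1 : Fin (k + 1) → V) where
  le := hk
  sing i := by
    induction i using Fin.lastCases with
    | last => rw [Fin.snoc_last]; exact v.2.1
    | cast i => rw [Fin.snoc_castSucc]; exact h.sing i
  perp i j := by
    induction i using Fin.lastCases with
    | last =>
      induction j using Fin.lastCases with
      | last => rw [Fin.snoc_last]; exact P.sing_self _ v.2.1
      | cast j => rw [Fin.snoc_last, Fin.snoc_castSucc]; exact P.swap_zero (v.2.2.1 j)
    | cast i =>
      induction j using Fin.lastCases with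
      | last => rw [Fin.snoc_last, Fin.snoc_castSucc]; exact v.2.2.1 i
      | cast j => rw [Fin.snoc_castSucc, Fin.snoc_castSucc]; exact h.perp i j
  pair i j hij := by
    induction j using Fin.lastCases with
    | last =>
      rw [Fin.snoc_last, v.2.2.2 i.val (Nat.le_of_lt_succ i.2)]
      simp [Fin.ext_iff]
    | cast j =>
      obtain ⟨i, rfl⟩ : ∃ i' : Fin k, i'.castSucc = i :=
        ⟨⟨i.val, lt_of_le_of_lt hij j.2⟩, rfl⟩
      rw [Fin.snoc_castSucc]
      simpa using h.pair i j hij

/-- Extension of partial frames by one member. -/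
noncomputable def partsSucc (C : P.Chamber) {k : ℕ} (hk : k < P.m) :
    Parts C (k + 1) ≃ Σ f : Parts C k, Next C f.1 where
  toFun g := ⟨⟨g.1 ∘ Fin.castLE k.le_succ, g.2.castLE k.le_succ⟩, ⟨g.1 (Fin.last k), g.2.sing _,
    fun i => g.2.perp _ _, fun j hj => by
      have := g.2.pair ⟨j, Nat.lt_succ_of_le hj⟩ (Fin.last k) (Nat.le_of_lt_succ (Nat.lt_succ_of_le hj))
      simpa [Fin.ext_iff] using this⟩⟩
  invFun x := ⟨Fin.snoc x.1.1 x.2.1, x.1.2.snoc hk x.2⟩
  left_inv g := by
    refine Subtype.ext (funext fun i => ?_)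
    induction i using Fin.lastCases with
    | last => exact Fin.snoc_last (α := fun _ => V) _ _
    | cast i => exact Fin.snoc_castSucc (α := fun _ => V) _ _ _
  right_inv x := by
    obtain ⟨⟨f, hf⟩, ⟨v, hv⟩⟩ := x
    have e : (Fin.snoc f v : Fin (k + 1) → V) ∘ Fin.castLE k.le_succ = f :=
      funext fun i => Fin.snoc_castSucc (α := fun _ => V) _ _ i
    refine Sigma.ext (Subtype.ext e) ?_
    unfold Next
    refine (Subtype.heq_iff_coe_eq fun w => ?_).2 (Fin.snoc_last (α := fun _ => V) _ _)
    simp only [e]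

variable [Finite V] [Finite F]

theorem card_next {C : P.Chamber} {k : ℕ} {f : Fin k → V} (h : Part C f) (hk : k < P.m) :
    Nat.card (Next C f) * Nat.card F ^ (2 * k + 2) = P.t * Nat.card F ^ finrank F V := by
  classical
  obtain ⟨v₀, hv₀, hv₀'⟩ := P.exists_sep (C.base_notMem hk)
  obtain ⟨y, hy, hy'⟩ := Part.exists_corr h v₀
  set v₁ := v₀ - y with hv₁
  obtain ⟨e, he, he', he''⟩ := h.exists_top hk
  set W := C.fl (k + 1) ⊔ Submodule.span F (Set.range f) with hW
  have hb : ∀ j ≤ k, P.B (C.base j) v₁ = if j = k then 1 else 0 := by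
    intro j hj
    have hjm : C.base j ∈ C.fl (j + 1) := C.base_mem (by omega)
    rw [hv₁, map_sub, C.fl_B hjm hy, sub_zero]
    split_ifs with hjk
    · rw [hjk, hv₀']
    · exact hv₀ _ (C.fl_mono (by omega) hjm)
  have hor : ∀ x : V, x ∈ P.orth W ↔ (∀ i, P.B (f i) x = 0) ∧ ∀ j ≤ k, P.B (C.base j) x = 0 := by
    intro x
    constructor
    · intro hx
      exact ⟨fun i => hx _ (Submodule.mem_sup_right (Submodule.subset_span ⟨i, rfl⟩)), fun j hj =>
        hx _ (Submodule.mem_sup_left (C.fl_mono (by omega) (C.base_mem (by omega))))⟩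
    · rintro ⟨h1, h2⟩ w hw
      obtain ⟨a, ha, b, hb', rfl⟩ := Submodule.mem_sup.1 hw
      have ha0 : P.B a x = 0 := C.mem_orth_fl hk (fun j hj => h2 j (by omega)) _ ha
      obtain ⟨c, rfl⟩ := (Submodule.mem_span_range_iff_exists_fun F).1 hb'
      rw [B_add_left, ha0, zero_add, map_sum, LinearMap.sum_apply]
      exact Finset.sum_eq_zero fun i _ => by rw [B_smul_left, h1, mul_zero]
  have heor : e ∈ P.orth W := (hor e).2 ⟨he'', fun j hj => C.fl_B (C.base_mem (by omega)) he⟩
  have hev : ∀ x ∈ P.orth W, P.B e (v₁ + x) = 1 := by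
    intro x hx
    rw [map_add, hx e (Submodule.mem_sup_left he), add_zero, show e = C.base k + (e - C.base k) by abel,
      B_add_left, hb k le_rfl, if_pos rfl, hv₁, map_sub, hv₀ _ he', C.fl_B he' hy, sub_zero, add_zero]
  let eqv : Next C f × F ≃ Σ x : P.orth W, {c : F // P.Sing (v₁ + x + c • e)} :=
    { toFun := fun vc => ⟨⟨vc.1.1 - vc.2 • e - v₁, (hor _).2
          ⟨fun i => by rw [map_sub, map_sub, vc.1.2.2.1, B_smul_right, he'', hy' i]; ring,
           fun j hj => by
            rw [map_sub, map_sub, vc.1.2.2.2 j hj, hb j hj, B_smul_right,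
              C.fl_B (C.base_mem (by omega)) he]
            ring⟩⟩,
        ⟨vc.2, by
          show P.Sing (v₁ + (vc.1.1 - vc.2 • e - v₁) + vc.2 • e)
          rw [show v₁ + (vc.1.1 - vc.2 • e - v₁) + vc.2 • e = vc.1.1 by abel]
          exact vc.1.2.1⟩⟩
      invFun := fun xc => (⟨v₁ + xc.1.1 + xc.2.1 • e, xc.2.2,
        fun i => by
          rw [map_add, map_add, B_smul_right, he'', ((hor _).1 xc.1.2).1, hy' i]; ring,
        fun j hj => by
          rw [map_add, map_add, B_smul_right, ((hor _).1 xc.1.2).2 j hj, hb j hj,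
            C.fl_B (C.base_mem (by omega)) he]
          ring⟩, xc.2.1)
      left_inv := fun vc => by
        refine Prod.ext (Subtype.ext ?_) rfl
        show v₁ + (vc.1.1 - vc.2 • e - v₁) + vc.2 • e = vc.1.1
        abel
      right_inv := fun xc => by
        obtain ⟨⟨x, hx⟩, ⟨c, hc⟩⟩ := xc
        have hxe : v₁ + x + c • e - c • e - v₁ = x := by abel
        refine Sigma.ext (Subtype.ext hxe) ?_
        refine (Subtype.heq_iff_coe_eq fun d => ?_).2 rfl
        simp only [hxe] }
  have hcard := Nat.card_congr eqv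
  have : Fintype (P.orth W) := Fintype.ofFinite _
  rw [Nat.card_prod, Nat.card_sigma] at hcard
  have hsum : ∀ x : P.orth W, Nat.card {c : F // P.Sing (v₁ + x + c • e)} = P.t := fun x =>
    P.card_partner e _ (C.fl_sing he) (hev x x.2)
  simp only [hsum, Finset.sum_const, Finset.card_univ, smul_eq_mul, ← Nat.card_eq_fintype_card] at hcard
  have hdim : finrank F W = 2 * k + 1 := by
    have h1 := Submodule.finrank_sup_add_finrank_inf_eq (C.fl (k + 1)) (Submodule.span F (Set.range f))
    have h2 : C.fl (k + 1) ⊓ Submodule.span F (Set.range f) = ⊥ := by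
      refine (Submodule.eq_bot_iff _).2 fun x hx => h.eq_zero_of_span_orth hx.2 ?_
      exact fun w hw => C.fl_B hw hx.1
    rw [h2, finrank_bot, C.finrank_fl hk, finrank_span_eq_card h.linearIndependent, Fintype.card_fin,
      ← hW] at h1
    omega
  have horth := P.card_orth W
  rw [Module.natCard_eq_pow_finrank (K := F) (V := W), Module.natCard_eq_pow_finrank (K := F) (V := V),
    hdim] at horth
  calc Nat.card (Next C f) * Nat.card F ^ (2 * k + 2)
      = (Nat.card (Next C f) * Nat.card F) * Nat.card F ^ (2 * k + 1) := by ring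
    _ = P.t * (Nat.card (P.orth W) * Nat.card F ^ (2 * k + 1)) := by rw [hcard]; ring
    _ = _ := by rw [horth]

theorem card_parts (C : P.Chamber) {k : ℕ} (hk : k ≤ P.m) :
    Nat.card (Parts C k) * Nat.card F ^ (k * (k + 1)) = P.t ^ k * Nat.card F ^ (k * finrank F V) := by
  induction k with
  | zero =>
    have h : Part C (Fin.elim0 : Fin 0 → V) :=
      ⟨Nat.zero_le _, fun i => i.elim0, fun i => i.elim0, fun i => i.elim0⟩
    have : Unique (Parts C 0) := ⟨⟨⟨_, h⟩⟩, fun g => Subtype.ext (Subsingleton.elim _ _)⟩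
    simp
  | succ k ih =>
    classical
    have hk' : k < P.m := hk
    have : Finite (Parts C k) := Subtype.finite
    have := Fintype.ofFinite (Parts C k)
    have : ∀ f : Parts C k, Finite (Next C f.1) := fun f => Subtype.finite
    rw [Nat.card_congr (partsSucc C hk'), Nat.card_sigma]
    rw [show (k + 1) * (k + 1 + 1) = k * (k + 1) + (2 * k + 2) by ring, Finset.sum_mul]
    have : ∀ f : Parts C k, Nat.card (Next C f.1) * Nat.card F ^ (k * (k + 1) + (2 * k + 2)) =
        Nat.card F ^ (k * (k + 1)) * (P.t * Nat.card F ^ finrank F V) := fun f => by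
      rw [← card_next f.2 hk']; ring
    rw [Finset.sum_congr rfl fun f _ => this f, Finset.sum_const, Finset.card_univ, smul_eq_mul,
      ← Nat.card_eq_fintype_card, ← mul_assoc, ih hk'.le]
    ring

/-- The chamber spanned by a frame. -/
noncomputable def Part.chamber {C : P.Chamber} {f : Fin P.m → V} (h : Part C f) : P.Chamber :=
  ⟨fun i => Submodule.span F (Set.range (f ∘ Fin.castLE (Nat.le_of_lt_succ i.2))),
    fun i => by
      exact (finrank_span_eq_card (h.castLE _).linearIndependent).trans (Fintype.card_fin _),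
    fun i => P.ts_span (by rintro _ ⟨j, rfl⟩; exact h.sing _)
      (by rintro _ ⟨j, rfl⟩ _ ⟨l, rfl⟩; exact h.perp _ _),
    fun i j hij => Submodule.span_mono (by
      rintro _ ⟨l, rfl⟩
      exact ⟨Fin.castLE (Fin.le_def.1 hij) l, rfl⟩)⟩

omit [Finite V] [Finite F] in
theorem Part.chamber_fl {C : P.Chamber} {f : Fin P.m → V} (h : Part C f) {i : ℕ} (hi : i ≤ P.m) :
    h.chamber.fl i = Submodule.span F (f '' {j | j.val < i}) := by
  show Submodule.span F (Set.range _) = _
  congr 1
  ext x
  constructor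
  · rintro ⟨j, rfl⟩
    refine ⟨_, ?_, rfl⟩
    have := j.2
    simp only [Set.mem_ofPred_eq, Fin.val_castLE]
    simp only at this
    omega
  · rintro ⟨j, hj, rfl⟩
    exact ⟨⟨j.val, by simp only; exact lt_min hj j.2⟩, rfl⟩

omit [Finite V] [Finite F] in
theorem Part.chamber_opp {C : P.Chamber} {f : Fin P.m → V} (h : Part C f) : Opp C h.chamber := by
  intro i hi
  refine (Submodule.eq_bot_iff _).2 fun x hx => ?_
  obtain ⟨hx1, hx2⟩ := hx
  refine (h.castLE hi).eq_zero_of_span_orth ?_ hx2
  rw [SetLike.mem_coe, h.chamber_fl hi] at hx1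
  refine Submodule.span_mono ?_ hx1
  rintro _ ⟨j, hj, rfl⟩
  exact ⟨⟨j.val, hj⟩, rfl⟩

omit [Finite V] [Finite F] in
theorem Part.mem_chamber {C : P.Chamber} {f : Fin P.m → V} (h : Part C f) (j : Fin P.m) :
    f j ∈ h.chamber.fl (j.val + 1) := by
  rw [h.chamber_fl j.2]
  exact Submodule.subset_span ⟨j, show j.val < j.val + 1 by omega, rfl⟩

omit [Finite V] [Finite F] in
theorem Opp.eq_zero {C D : P.Chamber} (hD : Opp C D) {i : ℕ} (hi : i ≤ P.m) {x : V} (hx : x ∈ D.fl i)
    (hx' : ∀ j < i, P.B (C.base j) x = 0) : x = 0 := by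
  have : x ∈ D.fl i ⊓ P.orth (C.fl i) := ⟨hx, C.mem_orth_fl hi hx'⟩
  rwa [hD i hi, Submodule.mem_bot] at this

omit [Finite V] [Finite F] in
theorem Opp.exists_part {C D : P.Chamber} (hD : Opp C D) :
    ∃ f : Fin P.m → V, Part C f ∧ ∀ j, f j ∈ D.fl (j.val + 1) := by
  classical
  have hex : ∀ k : Fin P.m, ∃ x ∈ D.fl (k.val + 1), ∀ j ≤ k.val,
      P.B (C.base j) x = if j = k.val then 1 else 0 := by
    intro k
    let L : D.fl (k.val + 1) →ₗ[F] (Fin (k.val + 1) → F) :=
      LinearMap.pi fun j => (P.B (C.base j.val)).comp (D.fl (k.val + 1)).subtype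
    have hinj : Function.Injective L := (injective_iff_map_eq_zero L).2 fun x hx =>
      Subtype.ext (hD.eq_zero k.2 x.2 fun j hj => congrFun hx ⟨j, hj⟩)
    have hsurj := (LinearMap.injective_iff_surjective_of_finrank_eq_finrank
      (by rw [D.finrank_fl k.2, Module.finrank_fin_fun])).1 hinj
    obtain ⟨x, hx⟩ := hsurj fun j => if j.val = k.val then 1 else 0
    exact ⟨x.1, x.2, fun j hj => congrFun hx ⟨j, by omega⟩⟩
  choose f hf hf' using hex
  exact ⟨f, ⟨le_rfl, fun i => D.fl_sing (hf i), fun i j => D.fl_B (hf i) (hf j), fun i j hij => by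
    simp only [hf' j i.val hij, Fin.ext_iff]⟩, hf⟩

omit [Finite V] [Finite F] in
theorem Part.chamber_eq {C D : P.Chamber} {f : Fin P.m → V} (h : Part C f)
    (hD : ∀ j, f j ∈ D.fl (j.val + 1)) : h.chamber = D := by
  refine Chamber.ext fun i hi => ?_
  refine Submodule.eq_of_le_of_finrank_eq ?_ (by rw [h.chamber.finrank_fl hi, D.finrank_fl hi])
  rw [h.chamber_fl hi, Submodule.span_le]
  rintro _ ⟨j, hj, rfl⟩
  exact D.fl_mono hj (hD j)

omit [Finite V] [Finite F] in
theorem Part.eq_of_mem {C D : P.Chamber} (hD : Opp C D) {f f' : Fin P.m → V} (h : Part C f)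
    (h' : Part C f') (hf : ∀ j, f j ∈ D.fl (j.val + 1)) (hf' : ∀ j, f' j ∈ D.fl (j.val + 1)) :
    f = f' := by
  funext k
  refine sub_eq_zero.1 (hD.eq_zero k.2 (sub_mem (hf k) (hf' k)) fun j hj => ?_)
  rw [map_sub, h.pair ⟨j, by omega⟩ k (Nat.le_of_lt_succ hj),
    h'.pair ⟨j, by omega⟩ k (Nat.le_of_lt_succ hj), sub_self]

/-- The chambers opposite to a chamber are the spans of its frames. -/
noncomputable def oppEquiv (C : P.Chamber) : Parts C P.m ≃ {D : P.Chamber // Opp C D} :=
  Equiv.ofBijective (fun f => ⟨f.2.chamber, f.2.chamber_opp⟩) ⟨fun f g hfg => by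
    have e : f.2.chamber = g.2.chamber := congrArg Subtype.val hfg
    exact Subtype.ext (Part.eq_of_mem f.2.chamber_opp f.2 g.2 f.2.mem_chamber
      (fun j => e ▸ g.2.mem_chamber j)),
    fun D => by
      obtain ⟨f, hf, hfD⟩ := D.2.exists_part
      exact ⟨⟨f, hf⟩, Subtype.ext (hf.chamber_eq hfD)⟩⟩

theorem card_opp (C : P.Chamber) :
    Nat.card {D : P.Chamber // Opp C D} * Nat.card F ^ (P.m * (P.m + 1)) =
      P.t ^ P.m * Nat.card F ^ (P.m * finrank F V) := by
  rw [← Nat.card_congr (oppEquiv C)]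
  exact card_parts C le_rfl

theorem exists_opp (C : P.Chamber) : ∃ D, Opp C D := by
  have h := card_opp C
  have hF : 0 < Nat.card F := Nat.card_pos
  by_contra hne
  have : IsEmpty {D : P.Chamber // Opp C D} := ⟨fun D => hne ⟨D.1, D.2⟩⟩
  rw [Nat.card_of_isEmpty, zero_mul] at h
  exact (mul_pos (pow_pos P.t_pos _) (pow_pos hF _)).ne h

end Cfsg.Agent.ClassicalSteinberg.Polar
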