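import Cfsg.Agent.ClassicalSteinberg.Orth
import Cfsg.Agent.Classical.PlusFourTwo
import Cfsg.Agent.Char.Commutant
import Cfsg.Agent.Char.Gen

/-!
The degenerate case PΩ⁺₄(2): the irreducible character of degree 2 through the symmetric group of degree 3.
-/

set_option autoImplicit false

namespace Cfsg.Agent.ClassicalSteinberg

open scoped commutatorElement

universe u

theorem perm_three_std : Cfsg.IsIrrCharacter (Equiv.Perm (Fin 3))
    (fun x => ((Finset.univ.filter fun i : Fin 3 => x i = i).card : ℂ) - 1) := by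
  classical
  have hfix : ∀ x : Equiv.Perm (Fin 3),
      Nat.card (MulAction.fixedBy (Fin 3) x) = (Finset.univ.filter fun i : Fin 3 => x i = i).card := fun x => by
    rw [Nat.card_eq_fintype_card]
    exact Fintype.card_of_subtype _ fun i => by simp [MulAction.mem_fixedBy, Equiv.Perm.smul_def]
  refine Char.IsGen.isIrr_of_norm_one ?_ ?_ ?_
  · refine ⟨(Cfsg.permRep ℂ (Equiv.Perm (Fin 3)) (Fin 3)).character, fun _ => 1, Char.isCharacter_of_rep _,
      Char.isCharacter_one, funext fun x => ?_⟩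
    simp only [Pi.sub_apply, Char.permRep_character, hfix]
  · have h : ∑ x : Equiv.Perm (Fin 3),
        (((Finset.univ.filter fun i : Fin 3 => x i = i).card : ℤ) - 1) ^ 2 = 6 := by decide
    rw [Cfsg.classInner, show Nat.card (Equiv.Perm (Fin 3)) = 6 by
      rw [Nat.card_perm, Nat.card_fin]; rfl]
    simp only [map_sub, map_natCast, map_one, ← sq]
    have h' := congrArg (fun z : ℤ => (z : ℂ)) h
    push_cast at h'
    rw [h']
    norm_num
  · simp

theorem wreath_case {O : Type u} [Group O] [Finite O] (A B : Subgroup O) (eA : A ≃* Equiv.Perm (Fin 3))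
    (hAB : A ⊓ B = ⊥) (hcomm : ∀ a ∈ A, ∀ b ∈ B, a * b = b * a) (hidx : (A ⊔ B).index = 2) {g : O}
    (hg : A.map (MulAut.conj g).toMonoidHom = B) :
    ∃ χ : commutator O ⧸ Subgroup.center (commutator O) → ℂ, Cfsg.IsIrrCharacter _ χ ∧
      ∀ P : Sylow 2 (commutator O ⧸ Subgroup.center (commutator O)), χ 1 = Nat.card P ∧
        ∀ x : commutator O ⧸ Subgroup.center (commutator O), x ∈ P → x ≠ 1 → χ x = 0 := by
  classical
  let S := Equiv.Perm (Fin 3)
  let iA : S →* O := A.subtype.comp eA.symm.toMonoidHom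
  let iB : S →* O := (MulAut.conj g).toMonoidHom.comp iA
  have hiA : ∀ x, iA x ∈ A := fun x => (eA.symm x).2
  have hiB : ∀ x, iB x ∈ B := fun x => hg ▸ ⟨iA x, hiA x, rfl⟩
  have hrA : iA.range = A := le_antisymm (by rintro _ ⟨x, rfl⟩; exact hiA x)
    (fun a ha => ⟨eA ⟨a, ha⟩, by simp [iA]⟩)
  have hrB : iB.range = B := by rw [MonoidHom.range_comp, hrA, hg]
  let j : S × S →* O := iA.noncommCoprod iB fun x y => hcomm _ (hiA x) _ (hiB y)
  have hjapp : ∀ x y, j (x, y) = iA x * iB y := fun x y => rfl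
  have hiAinj : Function.Injective iA := Subtype.val_injective.comp eA.symm.injective
  have hiBinj : Function.Injective iB := (MulAut.conj g).injective.comp hiAinj
  have hjinj : Function.Injective j := (injective_iff_map_eq_one j).2 fun p hp => by
    have h1 : iA p.1 = iB p.2⁻¹ := by rw [map_inv]; exact mul_eq_one_iff_eq_inv.1 hp
    have h2 : iA p.1 ∈ A ⊓ B := ⟨hiA _, h1 ▸ hiB _⟩
    rw [hAB, Subgroup.mem_bot] at h2
    refine Prod.ext (hiAinj (h2.trans iA.map_one.symm)) ?_
    have h3 : iB p.2⁻¹ = iB 1 := by rw [← h1, h2, map_one]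
    exact inv_eq_one.1 (hiBinj h3)
  have hrange : j.range = A ⊔ B := (MonoidHom.noncommCoprod_range _ _ _).trans (by rw [hrA, hrB])
  obtain ⟨⟨x₀, y₀⟩, hxy⟩ : g * g ∈ j.range := hrange ▸ Subgroup.mul_self_mem_of_index_two hidx g
  let θ : S × S →* ℤˣ := Equiv.Perm.sign.comp (MonoidHom.fst S S) * Equiv.Perm.sign.comp (MonoidHom.snd S S)
  let N₀ : Subgroup O := θ.ker.map j
  have hgconj : ∀ x y, g * j (x, y) * g⁻¹ = j (x₀ * y * x₀⁻¹, x) := by
    intro x y
    have h1 : ∀ z, iB z = g * iA z * g⁻¹ := fun z => rfl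
    have hcm : iB y₀ * iA y * (iB y₀)⁻¹ = iA y := by
      rw [← hcomm _ (hiA y) _ (hiB y₀), mul_inv_cancel_right]
    have e1 : g * g * iA y * (g * g)⁻¹ = iA (x₀ * y * x₀⁻¹) := by
      rw [← hxy, hjapp, map_mul iA, map_mul iA, map_inv iA, mul_inv_rev]
      calc iA x₀ * iB y₀ * iA y * ((iB y₀)⁻¹ * (iA x₀)⁻¹)
          = iA x₀ * (iB y₀ * iA y * (iB y₀)⁻¹) * (iA x₀)⁻¹ := by group
        _ = _ := by rw [hcm]
    rw [hjapp, hjapp, ← e1, hcomm _ (e1 ▸ hiA _) _ (hiB x), h1 x, h1 y]
    group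
  have hN₀ : N₀.Normal := by
    refine ⟨fun n hn o => ?_⟩
    obtain ⟨⟨x, y⟩, hxy', rfl⟩ := hn
    have hin : ∀ o ∈ j.range, ∀ p, θ p = 1 → o * j p * o⁻¹ ∈ N₀ := by
      rintro _ ⟨r, rfl⟩ p hp
      exact ⟨r * p * r⁻¹, by rw [SetLike.mem_coe, MonoidHom.mem_ker, map_mul, map_mul, hp, map_inv, mul_one,
        mul_inv_cancel], by rw [map_mul, map_mul, map_inv]⟩
    by_cases ho : o ∈ j.range
    · exact hin o ho _ hxy'
    · have hgn : g ∉ j.range := by
        intro hgN
        obtain ⟨⟨a, b⟩, hab⟩ := hgN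
        have hB : iB (Equiv.swap 0 1) ∈ A := by
          show g * iA (Equiv.swap 0 1) * g⁻¹ ∈ A
          rw [← hab]
          have : j (a, b) * iA (Equiv.swap 0 1) * (j (a, b))⁻¹ = iA (a * Equiv.swap 0 1 * a⁻¹) := by
            rw [hjapp, map_mul iA, map_mul iA, map_inv iA, mul_inv_rev]
            calc iA a * iB b * iA (Equiv.swap 0 1) * ((iB b)⁻¹ * (iA a)⁻¹)
                = iA a * (iB b * iA (Equiv.swap 0 1) * (iB b)⁻¹) * (iA a)⁻¹ := by group
              _ = _ := by rw [← hcomm _ (hiA _) _ (hiB b), mul_inv_cancel_right]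
          exact this ▸ hiA _
        have h2 : iB (Equiv.swap 0 1) ∈ A ⊓ B := ⟨hB, hiB _⟩
        rw [hAB, Subgroup.mem_bot] at h2
        exact absurd (hiBinj (h2.trans iB.map_one.symm)) (by decide)
      have hog : o * g⁻¹ ∈ j.range := by
        rw [hrange] at ho hgn ⊢
        rw [Subgroup.mul_mem_iff_of_index_two hidx, inv_mem_iff]
        exact iff_of_false ho hgn
      have h2 : θ (x₀ * y * x₀⁻¹, x) = 1 := by
        have hxy2 : Equiv.Perm.sign x * Equiv.Perm.sign y = 1 := hxy'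
        show Equiv.Perm.sign (x₀ * y * x₀⁻¹) * Equiv.Perm.sign x = 1
        rw [map_mul, map_mul, map_inv, mul_comm (Equiv.Perm.sign x₀), mul_inv_cancel_right, mul_comm, hxy2]
      have := hin _ hog _ h2
      rw [← hgconj] at this
      convert this using 1
      group
  have hjrcard : Nat.card j.range = 36 := by
    rw [Nat.card_congr (MonoidHom.ofInjective hjinj).symm.toEquiv, Nat.card_prod, Nat.card_perm, Nat.card_fin]
    rfl
  have hO : Nat.card O = 72 := by
    rw [← (A ⊔ B).card_mul_index, hidx, ← hrange, hjrcard]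
  have hN₀card : Nat.card N₀ = 18 := by
    rw [Nat.card_congr (Subgroup.equivMapOfInjective θ.ker j hjinj).symm.toEquiv]
    have hsurj : Function.Surjective θ := fun u => by
      rcases Int.units_eq_one_or u with rfl | rfl
      · exact ⟨1, map_one θ⟩
      · exact ⟨(Equiv.swap 0 1, 1), by
          show Equiv.Perm.sign (Equiv.swap (0 : Fin 3) 1) * Equiv.Perm.sign (1 : S) = -1
          rw [Equiv.Perm.sign_swap (by decide), map_one, mul_one]⟩
    have h := θ.ker.index_mul_card
    rw [Subgroup.index_ker, MonoidHom.range_eq_top.2 hsurj, Subgroup.card_top, Nat.card_prod, Nat.card_perm,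
      Nat.card_fin, show Nat.card ℤˣ = 2 by simp, show Nat.factorial 3 = 6 from rfl] at h
    omega
  have hΩN : commutator O ≤ N₀ := by
    have hq : Nat.card (O ⧸ N₀) = 2 ^ 2 := by
      have := N₀.card_eq_card_quotient_mul_card_subgroup
      rw [hO, hN₀card] at this
      omega
    have : Fact (Nat.Prime 2) := ⟨Nat.prime_two⟩
    have := IsPGroup.isMulCommutative_of_card_eq_prime_sq hq
    rw [commutator_def, Subgroup.commutator_le]
    intro a _ b _
    rw [← QuotientGroup.eq_one_iff]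
    show QuotientGroup.mk' N₀ ⁅a, b⁆ = 1
    rw [map_commutatorElement, commutatorElement_eq_one_iff_mul_comm]
    exact this.is_comm.comm _ _
  have hΩ : Nat.card (commutator O) ∣ 18 := hN₀card ▸ Subgroup.card_dvd_of_le hΩN
  have hmem : ∀ x : commutator O, (x : O) ∈ j.range := fun x => (Subgroup.map_le_range j _) (hΩN x.2)
  let π : commutator O →* S :=
    (MonoidHom.fst S S).comp ((MonoidHom.ofInjective hjinj).symm.toMonoidHom.comp
      ((commutator O).subtype.codRestrict j.range hmem))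
  have hπ : ∀ (x : commutator O) p, j p = (x : O) → π x = p.1 := fun x p hp => by
    have : (MonoidHom.ofInjective hjinj).symm ⟨(x : O), hmem x⟩ = p := by
      rw [MulEquiv.symm_apply_eq]; exact Subtype.ext hp.symm
    exact congrArg Prod.fst this
  have hπsurj : Function.Surjective π := fun x => by
    refine ⟨⟨⁅iA x, g⁆, Subgroup.commutator_mem_commutator (Subgroup.mem_top _) (Subgroup.mem_top _)⟩,
      hπ _ (x, x⁻¹) ?_⟩
    show j (x, x⁻¹) = ⁅iA x, g⁆
    rw [hjapp, show iB x⁻¹ = g * iA x⁻¹ * g⁻¹ from rfl, map_inv, commutatorElement_def]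
    group
  have hker : Subgroup.center (commutator O) ≤ π.ker := fun z hz => by
    rw [MonoidHom.mem_ker]
    have hc : ∀ y : S, π z * y = y * π z := fun y => by
      obtain ⟨w, rfl⟩ := hπsurj y
      rw [← map_mul, ← map_mul, Subgroup.mem_center_iff.1 hz w]
    revert hc
    generalize π z = s
    revert s
    decide
  let π' := QuotientGroup.lift (Subgroup.center (commutator O)) π hker
  have hπ'surj : Function.Surjective π' := fun y => by
    obtain ⟨w, rfl⟩ := hπsurj y
    exact ⟨w, rfl⟩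
  have hQ : Nat.card (commutator O ⧸ Subgroup.center (commutator O)) ∣ 18 :=
    (Subgroup.card_quotient_dvd_card _).trans hΩ
  have hkQ : Nat.card π'.ker * 6 = Nat.card (commutator O ⧸ Subgroup.center (commutator O)) := by
    rw [← π'.ker.card_mul_index, Subgroup.index_ker, MonoidHom.range_eq_top.2 hπ'surj, Subgroup.card_top,
      Nat.card_perm, Nat.card_fin]
    rfl
  have hk3 : Nat.card π'.ker ∣ 3 := Nat.dvd_of_mul_dvd_mul_right (k := 6) (by norm_num) (by rw [hkQ]; exact hQ)
  refine ⟨_, Char.isIrrCharacter_comp π' hπ'surj perm_three_std, fun P => ?_⟩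
  have hP : Nat.card P = 2 := by
    have : Fact (Nat.Prime 2) := ⟨Nat.prime_two⟩
    rw [P.card_eq_multiplicity, ← hkQ]
    rcases (Nat.dvd_prime (by norm_num : Nat.Prime 3)).1 hk3 with h | h
    all_goals
      rw [h, Nat.factorization_mul (by norm_num) (by norm_num), Finsupp.add_apply,
        Nat.factorization_eq_zero_of_not_dvd (n := _) (p := 2) (by norm_num),
        show (6 : ℕ) = 2 * 3 from rfl, Nat.factorization_mul (by norm_num) (by norm_num), Finsupp.add_apply,
        Nat.prime_two.factorization_self, Nat.factorization_eq_zero_of_not_dvd (n := 3) (by norm_num)]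
      norm_num
  refine ⟨?_, fun x hx hx1 => ?_⟩
  · show (((Finset.univ.filter fun i : Fin 3 => π' 1 i = i).card : ℂ) - 1) = _
    rw [map_one, hP, Finset.filter_true_of_mem fun i _ => Equiv.Perm.one_apply i]
    simp
    norm_num
  · have hsq : x * x = 1 := by
      have h := pow_card_eq_one' (G := P) (x := ⟨x, hx⟩)
      rw [hP, pow_two] at h
      exact congrArg Subtype.val h
    have hne : π' x ≠ 1 := fun h => hx1 (orderOf_eq_one_iff.1 (Nat.dvd_one.1 (by
      have h2 : orderOf x ∣ 2 := orderOf_dvd_of_pow_eq_one (by rw [pow_two, hsq])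
      have h3 : orderOf x ∣ 3 := by
        refine dvd_trans ?_ hk3
        rw [← Subgroup.orderOf_mk (H := π'.ker) x h]
        exact orderOf_dvd_natCard _
      exact Nat.dvd_gcd h2 h3)))
    have hsq' : π' x * π' x = 1 := by rw [← map_mul, hsq, map_one]
    show (((Finset.univ.filter fun i : Fin 3 => π' x i = i).card : ℂ) - 1) = 0
    revert hne hsq'
    generalize π' x = s
    intro hne hsq'
    have h1 : (Finset.univ.filter fun i : Fin 3 => s i = i).card = 1 := by
      revert s; decide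
    rw [h1, Nat.cast_one, sub_self]

/-- The orthogonal matrices over isomorphic fields. -/
theorem plus_congr {F K : Type*} [Field F] [Field K] (σ : F ≃+* K) (m : ℕ) :
    Nonempty (Cfsg.isometryGroup F (Cfsg.quadFormPlus m F) ≃* Cfsg.isometryGroup K (Cfsg.quadFormPlus m K)) := by
  classical
  let e : GL (Fin m ⊕ Fin m) F ≃* GL (Fin m ⊕ Fin m) K := Units.mapEquiv (RingEquiv.mapMatrix σ).toMulEquiv
  have hQ : ∀ v, Cfsg.quadFormPlus m K (σ ∘ v) = σ (Cfsg.quadFormPlus m F v) := fun v => by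
    simp [Cfsg.quadFormPlus, map_sum]
  have hmv : ∀ (g : GL (Fin m ⊕ Fin m) F) (v : Fin m ⊕ Fin m → F),
      ((e g : GL (Fin m ⊕ Fin m) K) : Matrix (Fin m ⊕ Fin m) (Fin m ⊕ Fin m) K).mulVec (σ ∘ v) = σ ∘ ((g : Matrix (Fin m ⊕ Fin m) (Fin m ⊕ Fin m) F).mulVec v) := fun g v =>
    funext fun i => by exact (RingHom.map_mulVec σ.toRingHom (g : Matrix (Fin m ⊕ Fin m) (Fin m ⊕ Fin m) F) v i).symm
  have hmem : (Cfsg.isometryGroup F (Cfsg.quadFormPlus m F)).map e.toMonoidHom =
      Cfsg.isometryGroup K (Cfsg.quadFormPlus m K) := by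
    ext g
    constructor
    · rintro ⟨g, hg, rfl⟩
      intro u v
      obtain ⟨w, rfl⟩ : ∃ w, σ ∘ w = u := ⟨σ.symm ∘ u, funext fun i => σ.apply_symm_apply _⟩
      show Cfsg.quadFormPlus m K _ = Cfsg.quadFormPlus m K _
      simp only [Units.coeHom_apply]
      rw [show e.toMonoidHom g = e g from rfl, hmv, hQ, hQ]
      exact congrArg σ (hg w w)
    · intro hg
      obtain ⟨g, rfl⟩ := e.surjective g
      refine ⟨g, fun u v => ?_, rfl⟩
      have := hg (σ ∘ u) (σ ∘ u)
      simp only [Units.coeHom_apply] at this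
      rw [hmv, hQ, hQ] at this
      exact σ.injective this
  exact ⟨((e.subgroupMap (Cfsg.isometryGroup F (Cfsg.quadFormPlus m F))).trans (MulEquiv.subgroupCongr hmem))⟩

theorem omega_plus_four_two {F : Type u} [Field F] [Fintype F] (hF : Fintype.card F = 2) :
    ∃ χ : Cfsg.POmega F (Cfsg.quadFormPlus 2 F) → ℂ, Cfsg.IsIrrCharacter _ χ ∧
      ∀ P : Sylow 2 (Cfsg.POmega F (Cfsg.quadFormPlus 2 F)),
        χ 1 = Nat.card P ∧ ∀ x : Cfsg.POmega F (Cfsg.quadFormPlus 2 F), x ∈ P → x ≠ 1 → χ x = 0 := by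
  classical
  have : Fact (Nat.Prime 2) := ⟨Nat.prime_two⟩
  obtain ⟨e₁⟩ := plus_congr (ZMod.ringEquivOfPrime F Nat.prime_two hF).symm 2
  let e₂ : Cfsg.isometryGroup (ZMod 2) (Cfsg.quadFormPlus 2 (ZMod 2)) ≃* Classical.Quad.oG (Classical.Quad.plusQ (ZMod 2) 2) :=
    (MulEquiv.subgroupCongr (by rw [Classical.Quad.coe_plusQ])).trans (Classical.Quad.oEquiv _)
  let e := e₁.trans e₂
  obtain ⟨-, A, B, ⟨eA⟩, -, hAB, hcomm, hidx, g, hg⟩ := Classical.Quad.plus_four_two_shape
  refine wreath_case (A.map e.symm.toMonoidHom) (B.map e.symm.toMonoidHom)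
    ((e.symm.subgroupMap A).symm.trans eA) ?_ ?_ ?_ (g := e.symm g) ?_
  · rw [← Subgroup.map_inf _ _ _ e.symm.injective, hAB, Subgroup.map_bot]
  · rintro _ ⟨a, ha, rfl⟩ _ ⟨b, hb, rfl⟩
    rw [← map_mul, ← map_mul, hcomm a ha b hb]
  · rw [← Subgroup.map_sup]
    exact (Subgroup.index_map_equiv _ e.symm).trans hidx
  · rw [← hg, Subgroup.map_map, Subgroup.map_map]
    refine congrArg (fun f => Subgroup.map f A) (MonoidHom.ext fun x => ?_)
    simp

theorem omega_plus_steinberg_all {K : Type u} [Field K] [Fintype K] (p : ℕ) [hp : Fact p.Prime] [CharP K p] (m : ℕ)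
    (hm : 1 ≤ m) :
    ∃ χ : Cfsg.POmega K (Cfsg.quadFormPlus m K) → ℂ, Cfsg.IsIrrCharacter _ χ ∧
      ∀ P : Sylow p (Cfsg.POmega K (Cfsg.quadFormPlus m K)),
        χ 1 = Nat.card P ∧ ∀ x : Cfsg.POmega K (Cfsg.quadFormPlus m K), x ∈ P → x ≠ 1 → χ x = 0 := by
  by_cases h : Fintype.card K ≠ 2 ∨ m ≠ 2
  · exact omega_plus_steinberg p m hm h
  push Not at h
  obtain ⟨hK, rfl⟩ := h
  obtain rfl : p = 2 := by
    obtain ⟨f, hpr, hq⟩ := FiniteField.card K p
    rw [hK] at hq
    exact (Nat.prime_dvd_prime_iff_eq hpr Nat.prime_two).1 (hq ▸ dvd_pow_self p f.ne_zero)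
  exact omega_plus_four_two hK

end Cfsg.Agent.ClassicalSteinberg
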