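import Mathlib

/-!
Polar spaces: a reflexive sesquilinear form with a notion of singular vector, orthogonal subspaces,
totally singular subspaces and chambers (full flags of totally singular subspaces of the maximal rank).
-/

set_option autoImplicit false

namespace Cfsg.Agent.ClassicalSteinberg

open Module

universe u v

/-- A finite polar space: a non-degenerate reflexive sesquilinear form, a set of singular vectors,
the maximal rank `m` of a totally singular subspace, and the number `t` of singular points other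
than the given one on a hyperbolic line. -/
structure Polar (F : Type u) (V : Type v) [Field F] [AddCommGroup V] [Module F V] where
  σ : F →+* F
  B : V →ₛₗ[σ] V →ₗ[F] F
  ε : F
  Sing : V → Prop
  m : ℕ
  t : ℕ
  σσ : ∀ a, σ (σ a) = a
  εε : ε * ε = 1
  σε : σ ε = ε
  swap : ∀ x y, B y x = ε * σ (B x y)
  nondeg : ∀ x, (∀ y, B x y = 0) → x = 0
  sing_zero : Sing 0
  sing_self : ∀ x, Sing x → B x x = 0
  sing_smul : ∀ (c : F) x, Sing x → Sing (c • x)
  sing_add : ∀ x y, Sing x → Sing y → B x y = 0 → Sing (x + y)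
  card_partner : ∀ e f, Sing e → B e f = 1 → Nat.card {c : F // Sing (f + c • e)} = t
  t_pos : 0 < t
  sing_move : ∀ e f f' x, Sing e → Sing f → Sing f' → B e f = 1 → B e f' = 1 → Sing x →
    Sing (x + B e x • (f' - f) + (ε * (B (f' - f) f * B e x - B (f' - f) x)) • e)
  rank_le : ∀ W : Submodule F V, (∀ x ∈ W, Sing x ∧ ∀ y ∈ W, B x y = 0) → finrank F W ≤ m

variable {F : Type u} {V : Type v} [Field F] [AddCommGroup V] [Module F V] (P : Polar F V)

namespace Polar

theorem sing_neg {x : V} (hx : P.Sing x) : P.Sing (-x) := by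
  simpa using P.sing_smul (-1) x hx

theorem swap_zero {x y : V} (h : P.B x y = 0) : P.B y x = 0 := by
  rw [P.swap, h, map_zero, mul_zero]

theorem swap_one {x y : V} (h : P.B x y = 1) : P.B y x = P.ε := by
  rw [P.swap, h, map_one, mul_one]

theorem ε_ne : P.ε ≠ 0 := fun h => by simpa [h] using P.εε

theorem B_smul_left (c : F) (x y : V) : P.B (c • x) y = P.σ c * P.B x y := by
  simp

theorem B_smul_right (c : F) (x y : V) : P.B x (c • y) = c * P.B x y := by simp

theorem B_add_left (x x' y : V) : P.B (x + x') y = P.B x y + P.B x' y := by simp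

theorem B_sub_left (x x' y : V) : P.B (x - x') y = P.B x y - P.B x' y := by simp

/-- The orthogonal of a subspace. -/
def orth (W : Submodule F V) : Submodule F V where
  carrier := {x | ∀ w ∈ W, P.B w x = 0}
  add_mem' {a b} ha hb w hw := by rw [map_add, ha w hw, hb w hw, add_zero]
  zero_mem' w _ := map_zero _
  smul_mem' c x hx w hw := by rw [B_smul_right, hx w hw, mul_zero]

theorem mem_orth {W : Submodule F V} {x : V} : x ∈ P.orth W ↔ ∀ w ∈ W, P.B w x = 0 := Iff.rfl

theorem orth_anti {W W' : Submodule F V} (h : W ≤ W') : P.orth W' ≤ P.orth W :=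
  fun _ hx w hw => hx w (h hw)

theorem orth_bot : P.orth ⊥ = ⊤ := by
  refine eq_top_iff.2 fun x _ w hw => ?_
  rw [Submodule.mem_bot] at hw
  simp [hw]

/-- The functional `y ↦ B x y` restricted to a subspace. -/
def rep (W : Submodule F V) : V →+ Module.Dual F W where
  toFun x := (P.B x).comp W.subtype
  map_zero' := by ext; simp
  map_add' x y := by ext; simp

theorem rep_apply (W : Submodule F V) (x : V) (w : W) : P.rep W x w = P.B x w := rfl

theorem rep_ker (W : Submodule F V) (x : V) : P.rep W x = 0 ↔ x ∈ P.orth W := by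
  constructor
  · intro h w hw
    have h' : P.B x w = 0 := LinearMap.congr_fun h ⟨w, hw⟩
    exact P.swap_zero h'
  · intro h
    ext w
    exact P.swap_zero (h w.1 w.2)

theorem card_dual [Finite V] (W : Submodule F V) : Nat.card (Module.Dual F W) = Nat.card W := by
  classical
  exact (Nat.card_congr (Module.finBasis F W).toDualEquiv.toEquiv).symm

theorem rep_surjective [Finite V] (W : Submodule F V) : Function.Surjective (P.rep W) := by
  classical
  have hfin : Finite (Module.Dual F V) := Finite.of_equiv _ (Module.finBasis F V).toDualEquiv.toEquiv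
  let g : V → Module.Dual F V := fun x => P.B x
  have hg : Function.Injective g := fun x y h => by
    refine sub_eq_zero.1 (P.nondeg _ fun z => ?_)
    rw [B_sub_left]
    exact sub_eq_zero.2 (LinearMap.congr_fun h z)
  have hbij : Function.Bijective g :=
    (Nat.bijective_iff_injective_and_card g).2
      ⟨hg, Nat.card_congr (Module.finBasis F V).toDualEquiv.toEquiv⟩
  intro φ
  obtain ⟨ψ, hψ⟩ := LinearMap.exists_extend φ
  obtain ⟨x, hx⟩ := hbij.2 ψ
  exact ⟨x, by ext w; rw [rep_apply, show P.B x = ψ from hx, ← hψ]; rfl⟩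

theorem card_orth [Finite V] (W : Submodule F V) :
    Nat.card (P.orth W) * Nat.card W = Nat.card V := by
  have h1 := (P.rep W).ker.card_mul_index
  rw [AddSubgroup.index_ker, AddMonoidHom.range_eq_top.2 (P.rep_surjective W), AddSubgroup.card_top,
    card_dual] at h1
  rw [← h1]
  congr 1
  exact Nat.card_congr (Equiv.subtypeEquivRight fun x => ((P.rep_ker W x).symm.trans AddMonoidHom.mem_ker.symm))

theorem exists_sep [Finite V] {W : Submodule F V} {x : V} (hx : x ∉ W) :
    ∃ v ∈ P.orth W, P.B x v = 1 := by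
  classical
  obtain ⟨φ, hφ1, hφ2⟩ := Submodule.exists_dual_map_eq_bot_of_notMem hx inferInstance
  obtain ⟨y, hy⟩ := P.rep_surjective ⊤ (φ.comp (⊤ : Submodule F V).subtype)
  have key : ∀ z, P.B y z = φ z := fun z => LinearMap.congr_fun hy ⟨z, Submodule.mem_top⟩
  have hW : y ∈ P.orth W := fun w hw => P.swap_zero (by
    rw [key]
    have : φ w ∈ W.map φ := ⟨w, hw, rfl⟩
    rw [hφ2, Submodule.mem_bot] at this
    exact this)
  have hne : P.B x y ≠ 0 := fun h => hφ1 (by rw [← key]; exact P.swap_zero h)
  exact ⟨(P.B x y)⁻¹ • y, Submodule.smul_mem _ _ hW, by rw [B_smul_right, inv_mul_cancel₀ hne]⟩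

/-- A totally singular subspace. -/
def TS (W : Submodule F V) : Prop := ∀ x ∈ W, P.Sing x ∧ ∀ y ∈ W, P.B x y = 0

theorem TS.mono {W W' : Submodule F V} (h : P.TS W') (hle : W ≤ W') : P.TS W :=
  fun x hx => ⟨(h x (hle hx)).1, fun y hy => (h x (hle hx)).2 y (hle hy)⟩

theorem TS.le_orth {W : Submodule F V} (h : P.TS W) : W ≤ P.orth W :=
  fun x hx w hw => (h w hw).2 x hx

/-- Mutually orthogonal singular vectors span a totally singular subspace. -/
theorem ts_span {s : Set V} (h1 : ∀ x ∈ s, P.Sing x) (h2 : ∀ x ∈ s, ∀ y ∈ s, P.B x y = 0) :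
    P.TS (Submodule.span F s) := by
  have hB : ∀ x ∈ Submodule.span F s, ∀ y ∈ Submodule.span F s, P.B x y = 0 := by
    intro x hx
    induction hx using Submodule.span_induction with
    | mem x hxs =>
      intro y hy
      induction hy using Submodule.span_induction with
      | mem y hys => exact h2 x hxs y hys
      | zero => simp
      | add a b _ _ ha hb => simp [ha, hb]
      | smul c a _ ha => simp [ha]
    | zero => simp
    | add a b _ _ ha hb => intro y hy; simp [ha y hy, hb y hy]
    | smul c a _ ha => intro y hy; simp [ha y hy]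
  intro x hx
  refine ⟨?_, hB x hx⟩
  induction hx using Submodule.span_induction with
  | mem x hxs => exact h1 x hxs
  | zero => exact P.sing_zero
  | add a b ha' hb' ha hb => exact P.sing_add a b ha hb (hB a ha' b hb')
  | smul c a _ ha => exact P.sing_smul c a ha

/-- A chamber: a full flag of totally singular subspaces. -/
def Chamber : Type v :=
  {C : Fin (P.m + 1) → Submodule F V //
    (∀ i, finrank F (C i) = i.val) ∧ (∀ i, P.TS (C i)) ∧ Monotone C}

instance [Finite V] : Finite P.Chamber := by
  have : Finite (Submodule F V) := Finite.of_injective (fun W : Submodule F V => (W : Set V)) SetLike.coe_injective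
  exact Subtype.finite

variable {P}

/-- The member of dimension `i` of a chamber. -/
def Chamber.fl (C : P.Chamber) (i : ℕ) : Submodule F V := C.1 ⟨min i P.m, by omega⟩

namespace Chamber

variable (C : P.Chamber)

theorem finrank_fl {i : ℕ} (hi : i ≤ P.m) : finrank F (C.fl i) = i := by
  rw [fl, C.2.1]; simp [hi]

theorem fl_ts (i : ℕ) : P.TS (C.fl i) := C.2.2.1 _

theorem fl_mono {i j : ℕ} (h : i ≤ j) : C.fl i ≤ C.fl j :=
  C.2.2.2 (Fin.mk_le_mk.2 (min_le_min_right _ h))

theorem fl_zero [FiniteDimensional F V] : C.fl 0 = ⊥ := Submodule.finrank_eq_zero.1 (C.finrank_fl (Nat.zero_le _))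

theorem fl_sing {i : ℕ} {x : V} (hx : x ∈ C.fl i) : P.Sing x := (C.fl_ts i x hx).1

theorem fl_B {i j : ℕ} {x y : V} (hx : x ∈ C.fl i) (hy : y ∈ C.fl j) : P.B x y = 0 :=
  (C.fl_ts (max i j) x (C.fl_mono (le_max_left _ _) hx)).2 y (C.fl_mono (le_max_right _ _) hy)

theorem ext {C D : P.Chamber} (h : ∀ i ≤ P.m, C.fl i = D.fl i) : C = D := by
  refine Subtype.ext (funext fun i => ?_)
  have := h i.val (Nat.le_of_lt_succ i.2)
  simp only [fl] at this
  rwa [show (⟨min i.val P.m, by omega⟩ : Fin (P.m + 1)) = i from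
    Fin.ext (min_eq_left (Nat.le_of_lt_succ i.2))] at this

variable [FiniteDimensional F V]

theorem exists_base {k : ℕ} (hk : k < P.m) : ∃ a, a ∈ C.fl (k + 1) ∧ a ∉ C.fl k := by
  by_contra h
  push Not at h
  have := Submodule.finrank_mono h
  rw [C.finrank_fl hk.le, C.finrank_fl hk] at this
  omega

/-- A vector of the member of dimension `k + 1` outside that of dimension `k`. -/
noncomputable def base (k : ℕ) : V := Classical.epsilon fun a => a ∈ C.fl (k + 1) ∧ a ∉ C.fl k

theorem base_mem {k : ℕ} (hk : k < P.m) : C.base k ∈ C.fl (k + 1) :=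
  (Classical.epsilon_spec (C.exists_base hk)).1

theorem base_notMem {k : ℕ} (hk : k < P.m) : C.base k ∉ C.fl k :=
  (Classical.epsilon_spec (C.exists_base hk)).2

theorem eq_of_le {k : ℕ} {W : Submodule F V} (hle : C.fl k ≤ W) (hWm : finrank F W ≤ k + 1) {a : V}
    (haW : a ∈ W) (ha : a ∉ C.fl k) (hk : k < P.m) {x : V} (hx : x ∈ W) :
    ∃ c : F, x - c • a ∈ C.fl k := by
  have hlt : C.fl k < C.fl k ⊔ F ∙ a := by
    refine lt_of_le_of_ne le_sup_left fun h => ha ?_
    rw [h]
    exact Submodule.mem_sup_right (Submodule.mem_span_singleton_self a)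
  have hle2 : C.fl k ⊔ F ∙ a ≤ W := sup_le hle (by rwa [Submodule.span_singleton_le_iff_mem])
  have := Submodule.finrank_lt_finrank_of_lt hlt
  rw [C.finrank_fl hk.le] at this
  have heq := Submodule.eq_of_le_of_finrank_le hle2 (by omega)
  rw [← heq, Submodule.mem_sup] at hx
  obtain ⟨y, hy, z, hz, rfl⟩ := hx
  obtain ⟨c, rfl⟩ := Submodule.mem_span_singleton.1 hz
  exact ⟨c, by simpa using hy⟩

theorem mem_succ {k : ℕ} (hk : k < P.m) {x : V} (hx : x ∈ C.fl (k + 1)) :
    ∃ c : F, x - c • C.base k ∈ C.fl k :=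
  C.eq_of_le (C.fl_mono k.le_succ) (C.finrank_fl hk).le (C.base_mem hk) (C.base_notMem hk) hk hx

theorem mem_orth_fl {k : ℕ} (hk : k ≤ P.m) {x : V} (h : ∀ j < k, P.B (C.base j) x = 0) :
    x ∈ P.orth (C.fl k) := by
  induction k with
  | zero => rw [C.fl_zero, P.orth_bot]; trivial
  | succ k ih =>
    intro w hw
    obtain ⟨c, hc⟩ := C.mem_succ (by omega) hw
    have h0 := ih (by omega) (fun j hj => h j (by omega)) _ hc
    rwa [P.B_sub_left, P.B_smul_left, h k (by omega), mul_zero, sub_zero] at h0

end Chamber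

/-- Opposition of chambers. -/
def Opp (C D : P.Chamber) : Prop := ∀ i ≤ P.m, D.fl i ⊓ P.orth (C.fl i) = ⊥

/-- A totally singular subspace of rank `m` contains a chamber. -/
theorem exists_chamber [FiniteDimensional F V] {W : Submodule F V} (hW : P.TS W) (hd : finrank F W = P.m) :
    Nonempty P.Chamber := by
  let b := Module.finBasisOfFinrankEq F W hd
  let S : Fin (P.m + 1) → Set V := fun i => (fun j => (b j : V)) '' {j | j.val < i.val}
  refine ⟨⟨fun i => Submodule.span F (S i), fun i => ?_, fun i => hW.mono P ?_, fun i j h => ?_⟩⟩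
  · have hli : LinearIndependent F fun j => (b j : V) :=
      b.linearIndependent.map' W.subtype W.ker_subtype
    let e : Fin i.val ↪ Fin P.m :=
      ⟨Fin.castLE (Nat.le_of_lt_succ i.2), Fin.castLE_injective _⟩
    have hS : S i = Set.range (fun j => (b (e j) : V)) := by
      ext x
      constructor
      · rintro ⟨j, hj, rfl⟩
        exact ⟨⟨j.val, hj⟩, rfl⟩
      · rintro ⟨j, rfl⟩
        exact ⟨e j, j.2, rfl⟩
    show finrank F (Submodule.span F (S i)) = i.val
    rw [hS]
    exact (finrank_span_eq_card (hli.comp e e.injective)).trans (Fintype.card_fin _)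
  · refine Submodule.span_le.2 ?_
    rintro _ ⟨j, -, rfl⟩
    exact (b j).2
  · exact Submodule.span_mono (Set.image_mono fun l (hl : l.val < i.val) => show l.val < j.val from
      lt_of_lt_of_le hl h)

end Polar

end Cfsg.Agent.ClassicalSteinberg
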