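import Cfsg.Agent.ClassicalSteinberg.Frames

/-!
The isometries of a polar space, the moves along singular points, and the unipotent subgroup of a chamber:
it is generated by moves and acts regularly on the opposite chambers.
-/

set_option autoImplicit false

namespace Cfsg.Agent.ClassicalSteinberg.Polar

open Module

universe u v

variable {F : Type u} {V : Type v} [Field F] [AddCommGroup V] [Module F V] {P : Polar F V}

variable (P) in
/-- The isometries of a polar space. -/
def isom : Subgroup (V ≃ₗ[F] V) where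
  carrier := {g | (∀ x y, P.B (g x) (g y) = P.B x y) ∧ ∀ x, P.Sing (g x) ↔ P.Sing x}
  mul_mem' {a b} ha hb := ⟨fun x y => by simp only [LinearEquiv.mul_apply]; rw [ha.1, hb.1],
    fun x => by rw [LinearEquiv.mul_apply, ha.2, hb.2]⟩
  one_mem' := ⟨fun _ _ => rfl, fun _ => Iff.rfl⟩
  inv_mem' {a} ha := by
    have key : ∀ x, a (a⁻¹ x) = x := fun x => a.apply_symm_apply x
    exact ⟨fun x y => by conv_rhs => rw [← key x, ← key y, ha.1],
      fun x => by conv_rhs => rw [← key x, ha.2]⟩

theorem isom_B (g : P.isom) (x y : V) : P.B (g.1 x) (g.1 y) = P.B x y := g.2.1 x y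

theorem isom_sing (g : P.isom) (x : V) : P.Sing (g.1 x) ↔ P.Sing x := g.2.2 x

theorem isom_inv_apply (g : P.isom) (x : V) : (g⁻¹).1 (g.1 x) = x := g.1.symm_apply_apply x

theorem isom_apply_inv (g : P.isom) (x : V) : g.1 ((g⁻¹).1 x) = x := g.1.apply_symm_apply x

theorem isom_ext {g h : P.isom} (e : ∀ x, g.1 x = h.1 x) : g = h := Subtype.ext (LinearEquiv.ext e)

theorem isom_mul_apply (g h : P.isom) (x : V) : (g * h).1 x = g.1 (h.1 x) := rfl

theorem isom_one_apply (x : V) : (1 : P.isom).1 x = x := rfl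

theorem map_ts {W : Submodule F V} (hW : P.TS W) (g : P.isom) : P.TS (W.map g.1.toLinearMap) := by
  rintro _ ⟨x, hx, rfl⟩
  refine ⟨(isom_sing g x).2 (hW x hx).1, ?_⟩
  rintro _ ⟨y, hy, rfl⟩
  exact (isom_B g x y).trans ((hW x hx).2 y hy)

theorem map_orth (W : Submodule F V) (g : P.isom) :
    (P.orth W).map g.1.toLinearMap = P.orth (W.map g.1.toLinearMap) := by
  ext x
  constructor
  · rintro ⟨y, hy, rfl⟩ _ ⟨w, hw, rfl⟩
    exact (isom_B g w y).trans (hy w hw)
  · intro hx
    refine ⟨(g⁻¹).1 x, fun w hw => ?_, isom_apply_inv g x⟩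
    rw [← isom_B g, isom_apply_inv]
    exact hx _ ⟨w, hw, rfl⟩

instance : SMul P.isom P.Chamber where
  smul g C := ⟨fun i => (C.1 i).map g.1.toLinearMap,
    fun i => by rw [LinearEquiv.finrank_map_eq, C.2.1], fun i => map_ts (C.2.2.1 i) g,
    fun _ _ h => Submodule.map_mono (C.2.2.2 h)⟩

theorem smul_fl (g : P.isom) (C : P.Chamber) (i : ℕ) : (g • C).fl i = (C.fl i).map g.1.toLinearMap := rfl

instance : MulAction P.isom P.Chamber where
  one_smul C := Chamber.ext fun i _ => by
    rw [smul_fl]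
    exact Submodule.map_id _
  mul_smul g h C := Chamber.ext fun i _ => by
    simp only [smul_fl]
    exact Submodule.map_comp h.1.toLinearMap g.1.toLinearMap _

theorem Opp.smul {C D : P.Chamber} (h : Opp C D) (g : P.isom) : Opp (g • C) (g • D) := by
  intro i hi
  rw [smul_fl, smul_fl, ← map_orth, ← Submodule.map_inf _ g.1.injective, h i hi, Submodule.map_bot]

variable (P) in
/-- The linear map underlying a move. -/
def moveMap (e f f' : V) : V →ₗ[F] V where
  toFun x := x + P.B e x • (f' - f) + (P.ε * (P.B (f' - f) f * P.B e x - P.B (f' - f) x)) • e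
  map_add' x y := by
    simp only [map_add]
    match_scalars <;> ring
  map_smul' c x := by
    simp only [map_smul, RingHom.id_apply, smul_eq_mul]
    match_scalars <;> ring

theorem moveMap_apply (e f f' x : V) : P.moveMap e f f' x =
    x + P.B e x • (f' - f) + (P.ε * (P.B (f' - f) f * P.B e x - P.B (f' - f) x)) • e := rfl

/-- The hypotheses of a move. -/
structure MoveData (P : Polar F V) (e f f' : V) : Prop where
  he : P.Sing e
  hf : P.Sing f
  hf' : P.Sing f'
  ef : P.B e f = 1
  ef' : P.B e f' = 1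

theorem MoveData.apply_f {e f f' : V} (h : MoveData P e f f') : P.moveMap e f f' f = f' := by
  rw [moveMap_apply, h.ef, mul_one, sub_self, mul_zero, zero_smul, one_smul, add_zero, add_sub_cancel]

theorem MoveData.isometry {e f f' : V} (h : MoveData P e f f') (x y : V) :
    P.B (P.moveMap e f f' x) (P.moveMap e f f' y) = P.B x y := by
  have hee : P.B e e = 0 := P.sing_self e h.he
  have hed : P.B e (f' - f) = 0 := by rw [map_sub, h.ef, h.ef', sub_self]
  have hde : P.B (f' - f) e = 0 := P.swap_zero hed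
  have hxe : P.B x e = P.ε * P.σ (P.B e x) := P.swap e x
  have hxd : P.B x (f' - f) = P.ε * P.σ (P.B (f' - f) x) := P.swap _ x
  have hdd : P.B (f' - f) (f' - f) + P.B (f' - f) f + P.ε * P.σ (P.B (f' - f) f) = 0 := by
    rw [← P.swap]
    simp only [map_sub, LinearMap.sub_apply, P.sing_self f h.hf, P.sing_self f' h.hf']
    ring
  rw [moveMap_apply, moveMap_apply]
  generalize f' - f = d at *
  simp only [map_add, LinearMap.add_apply, map_smul, LinearMap.map_smulₛₗ₂, smul_eq_mul,
    hee, hde, hed, hxe, hxd, map_mul, map_sub, P.σε, mul_zero, add_zero]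
  linear_combination (P.σ (P.B e x) * P.B e y) * hdd +
    (P.σ (P.B e x) * (P.B d f * P.B e y - P.B d y)) * P.εε

variable [Finite V]

omit [Finite V] in
theorem MoveData.injective {e f f' : V} (h : MoveData P e f f') : Function.Injective (P.moveMap e f f') :=
  (injective_iff_map_eq_zero _).2 fun x hx => P.nondeg x fun y => by
    rw [← h.isometry x y, hx, map_zero, LinearMap.zero_apply]

theorem MoveData.sing_iff {e f f' : V} (h : MoveData P e f f') (x : V) :
    P.Sing (P.moveMap e f f' x) ↔ P.Sing x := by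
  refine ⟨fun hx => ?_, P.sing_move e f f' x h.he h.hf h.hf' h.ef h.ef'⟩
  let T : {y : V // P.Sing y} → {y : V // P.Sing y} :=
    fun y => ⟨_, P.sing_move e f f' y.1 h.he h.hf h.hf' h.ef h.ef' y.2⟩
  have hT : Function.Injective T := fun a b hab => Subtype.ext (h.injective (congrArg Subtype.val hab))
  obtain ⟨y, hy⟩ := (Finite.injective_iff_surjective.1 hT) ⟨_, hx⟩
  have : y.1 = x := h.injective (congrArg Subtype.val hy)
  exact this ▸ y.2

variable [FiniteDimensional F V]

/-- A move: the isometry fixing the singular point `e` and moving the partner `f` to `f'`. -/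
noncomputable def MoveData.move {e f f' : V} (h : MoveData P e f f') : P.isom :=
  ⟨LinearEquiv.ofInjectiveEndo _ h.injective, fun x y => h.isometry x y, fun x => h.sing_iff x⟩

theorem MoveData.move_apply {e f f' : V} (h : MoveData P e f f') (x : V) :
    h.move.1 x = P.moveMap e f f' x := rfl

variable (P) in
/-- The set of moves. -/
def moves : Set P.isom :=
  {g | ∃ (e f f' : V), ∃ h : MoveData P e f f', g = h.move}

omit [Finite V] in
theorem map_mem_fl {C : P.Chamber} {g : P.isom}
    (hg : ∀ k < P.m, ∀ x ∈ C.fl (k + 1), g.1 x - x ∈ C.fl k) {k : ℕ} (hk : k ≤ P.m) {x : V}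
    (hx : x ∈ C.fl k) : g.1 x ∈ C.fl k := by
  rcases k with _ | k
  · rw [C.fl_zero, Submodule.mem_bot] at hx ⊢
    rw [hx, map_zero]
  · rw [← sub_add_cancel (g.1 x) x]
    exact add_mem (C.fl_mono k.le_succ (hg k hk x hx)) hx

omit [Finite V] in
theorem map_fl_eq {C : P.Chamber} {g : P.isom}
    (hg : ∀ k < P.m, ∀ x ∈ C.fl (k + 1), g.1 x - x ∈ C.fl k) {k : ℕ} (hk : k ≤ P.m) :
    (C.fl k).map g.1.toLinearMap = C.fl k :=
  Submodule.eq_of_le_of_finrank_eq (by rintro _ ⟨x, hx, rfl⟩; exact map_mem_fl hg hk hx)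
    (LinearEquiv.finrank_map_eq _ _)

/-- The unipotent subgroup of a chamber. -/
def unip (C : P.Chamber) : Subgroup P.isom where
  carrier := {g | (∀ k < P.m, ∀ x ∈ C.fl (k + 1), g.1 x - x ∈ C.fl k) ∧
    ∀ x ∈ P.orth (C.fl P.m), g.1 x - x ∈ C.fl P.m}
  mul_mem' {a b} ha hb := by
    have h : ∀ x, (a * b).1 x - x = a.1 (b.1 x - x) + (a.1 x - x) := fun x => by
      rw [isom_mul_apply, map_sub]; abel
    exact ⟨fun k hk x hx => h x ▸ add_mem (map_mem_fl ha.1 hk.le (hb.1 k hk x hx)) (ha.1 k hk x hx),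
      fun x hx => h x ▸ add_mem (map_mem_fl ha.1 le_rfl (hb.2 x hx)) (ha.2 x hx)⟩
  one_mem' := ⟨fun k _ x _ => by rw [isom_one_apply, sub_self]; exact zero_mem _,
    fun x _ => by rw [isom_one_apply, sub_self]; exact zero_mem _⟩
  inv_mem' {a} ha := by
    have hinv : ∀ k ≤ P.m, ∀ y ∈ C.fl k, (a⁻¹).1 y ∈ C.fl k := fun k hk y hy => by
      rw [← map_fl_eq ha.1 hk] at hy
      obtain ⟨z, hz, rfl⟩ := hy
      rw [LinearEquiv.coe_coe, isom_inv_apply]; exact hz
    have h : ∀ x, (a⁻¹).1 x - x = -((a⁻¹).1 (a.1 x - x)) := fun x => by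
      rw [map_sub, isom_inv_apply]; abel
    exact ⟨fun k hk x hx => h x ▸ neg_mem (hinv k hk.le _ (ha.1 k hk x hx)),
      fun x hx => h x ▸ neg_mem (hinv _ le_rfl _ (ha.2 x hx))⟩

omit [Finite V] in
theorem unip_smul {C : P.Chamber} {g : P.isom} (hg : g ∈ unip C) : g • C = C :=
  Chamber.ext fun i hi => by rw [smul_fl, map_fl_eq hg.1 hi]

omit [Finite V] in
theorem Part.map {C : P.Chamber} {k : ℕ} {f : Fin k → V} (h : Part C f) {g : P.isom} (hg : g ∈ unip C) :
    Part C (fun i => g.1 (f i)) where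
  le := h.le
  sing i := (isom_sing g _).2 (h.sing i)
  perp i j := (isom_B g _ _).trans (h.perp i j)
  pair i j hij := by
    have hi : i.val < P.m := lt_of_lt_of_le i.2 h.le
    have hy := (unip C).inv_mem hg
    rw [← h.pair i j hij, ← isom_B g⁻¹, isom_inv_apply,
      ← sub_add_cancel ((g⁻¹).1 (C.base i.val)) (C.base i.val), B_add_left,
      h.mem_orth j _ (C.fl_mono (Fin.le_def.1 hij) (hy.1 i.val hi _ (C.base_mem hi))), zero_add]

omit [Finite V] in
theorem frame_orth {C : P.Chamber} {e : Fin P.m → V}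
    (he : ∀ l : Fin P.m, e l - C.base l.val ∈ C.fl l.val) :
    ∀ {k : ℕ}, k ≤ P.m → ∀ {z : V}, (∀ l : Fin P.m, l.val < k → P.B (e l) z = 0) → z ∈ P.orth (C.fl k) := by
  intro k
  induction k with
  | zero => intro _ z _; rw [C.fl_zero, P.orth_bot]; trivial
  | succ k ih =>
    intro hk z hz w hw
    have hor := ih (by omega) (fun l hl => hz l (by omega))
    obtain ⟨c, hc⟩ := C.mem_succ hk hw
    have h1 := hor _ (he ⟨k, hk⟩)
    rw [P.B_sub_left, hz ⟨k, hk⟩ (by simp), zero_sub, neg_eq_zero] at h1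
    have h2 := hor _ hc
    rwa [P.B_sub_left, P.B_smul_left, h1, mul_zero, sub_zero] at h2

omit [Finite V] in
/-- An element of the unipotent subgroup fixing a frame is trivial. -/
theorem unip_free {C : P.Chamber} {f : Fin P.m → V} (hf : Part C f) {g : P.isom} (hg : g ∈ unip C)
    (hgf : ∀ i, g.1 (f i) = f i) : g = 1 := by
  have hfix : ∀ x ∈ P.orth (C.fl P.m), g.1 x = x := fun x hx => by
    refine sub_eq_zero.1 (hf.eq_zero_of_pair _ (hg.2 x hx) fun i => ?_)
    conv_lhs => rw [map_sub]
    nth_rw 1 [← hgf i]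
    rw [isom_B, sub_self]
  refine isom_ext fun x => ?_
  obtain ⟨e, he⟩ := hf.exists_dual
  obtain ⟨y, hy, hy'⟩ := Part.exists_corr hf x
  set z := (x - y) - ∑ i, P.B (e i) (x - y) • f i with hz
  have hzor : z ∈ P.orth (C.fl P.m) := by
    refine frame_orth (fun l => (he l).2.1) le_rfl fun l _ => ?_
    rw [hz, map_sub, map_sum, Finset.sum_eq_single l]
    · rw [B_smul_right, (he l).2.2 l, if_pos rfl, mul_one, sub_self]
    · intro j _ hj
      rw [B_smul_right, (he l).2.2 j, if_neg hj, mul_zero]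
    · simp
  have hxz : x = y + (∑ i, P.B (e i) (x - y) • f i + z) := by rw [hz]; abel
  rw [isom_one_apply, hxz, map_add, map_add, map_sum, hfix y ((C.fl_ts _).le_orth P hy), hfix z hzor]
  simp only [map_smul, hgf]

/-- The unipotent subgroup permutes the frames transitively, and it does so through moves. -/
theorem exists_unip {C : P.Chamber} {f f' : Fin P.m → V} (hf : Part C f) (hf' : Part C f') :
    ∃ g ∈ unip C ⊓ Subgroup.closure P.moves, ∀ i, g.1 (f i) = f' i := by
  suffices ∀ k ≤ P.m, ∃ g ∈ unip C ⊓ Subgroup.closure P.moves, ∀ i : Fin P.m, i.val < k → g.1 (f i) = f' i by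
    obtain ⟨g, hg, hg'⟩ := this P.m le_rfl
    exact ⟨g, hg, fun i => hg' i i.2⟩
  intro k
  induction k with
  | zero => exact fun _ => ⟨1, one_mem _, fun i hi => absurd hi (Nat.not_lt_zero _)⟩
  | succ k ih =>
    intro hk
    obtain ⟨g, hg, hg'⟩ := ih (by omega)
    have hg2 := hf.map hg.1
    set l : Fin P.m := ⟨k, hk⟩ with hl
    obtain ⟨e, he⟩ := hf'.exists_dual
    obtain ⟨he1, he2, he3⟩ := he l
    have hel : P.B (e l) (g.1 (f l)) = 1 := by
      rw [show e l = C.base k + (e l - C.base k) by abel, B_add_left, hg2.pair_self l,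
        hg2.mem_orth l _ he2, add_zero]
    have hM : MoveData P (e l) (g.1 (f l)) (f' l) :=
      ⟨C.fl_sing he1, hg2.sing l, hf'.sing l, hel, by rw [he3, if_pos rfl]⟩
    have hd : ∀ x ∈ C.fl (k + 1), P.B (f' l - g.1 (f l)) x = 0 := fun x hx => P.swap_zero <| by
      have : f' l - g.1 (f l) ∈ P.orth (C.fl (k + 1)) := C.mem_orth_fl hk fun j hj => by
        have hjm : j < P.m := by omega
        have hjl : (⟨j, hjm⟩ : Fin P.m) ≤ l := show j ≤ k by omega
        rw [map_sub, hf'.pair ⟨j, hjm⟩ l hjl, hg2.pair ⟨j, hjm⟩ l hjl, sub_self]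
      exact this x hx
    have hT : hM.move ∈ unip C := by
      constructor
      · intro j hj x hx
        rw [hM.move_apply, moveMap_apply, C.fl_B he1 hx, zero_smul, add_zero, add_sub_cancel_left]
        by_cases hjk : j ≤ k
        · rw [hd x (C.fl_mono (by omega) hx), mul_zero, sub_zero, mul_zero, zero_smul]
          exact zero_mem _
        · exact Submodule.smul_mem _ _ (C.fl_mono (show k + 1 ≤ j by omega) he1)
      · intro x hx
        rw [hM.move_apply, moveMap_apply, hx _ (C.fl_mono hk he1), zero_smul, add_zero, add_sub_cancel_left]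
        exact Submodule.smul_mem _ _ (C.fl_mono hk he1)
    refine ⟨hM.move * g, mul_mem ⟨hT, Subgroup.subset_closure ⟨_, _, _, hM, rfl⟩⟩ hg, fun i hi => ?_⟩
    rw [isom_mul_apply, hM.move_apply]
    rcases Nat.lt_succ_iff_lt_or_eq.1 hi with hlt | heq
    · have hne : i ≠ l := fun h => absurd (congrArg Fin.val h) (ne_of_lt hlt)
      have hperp : P.B (f' l - g.1 (f l)) (f' i) = 0 := by
        rw [B_sub_left, hf'.perp]
        nth_rw 1 [← hg' i hlt]
        rw [hg2.perp, sub_zero]
      rw [hg' i hlt, moveMap_apply, he3, if_neg hne, hperp]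
      simp
    · have : i = l := Fin.ext heq
      rw [this]
      exact hM.apply_f

/-- The unipotent subgroup is in bijection with the frames. -/
theorem bijective_unip {C : P.Chamber} {f : Fin P.m → V} (hf : Part C f) :
    Function.Bijective (fun g : unip C => (⟨fun i => g.1.1 (f i), hf.map g.2⟩ : Parts C P.m)) := by
  refine ⟨fun g h hgh => ?_, fun f' => ?_⟩
  · have e : ∀ i, g.1.1 (f i) = h.1.1 (f i) := fun i => congrFun (congrArg Subtype.val hgh) i
    have := unip_free hf (g := h.1⁻¹ * g.1) (mul_mem (inv_mem h.2) g.2)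
      fun i => by rw [isom_mul_apply, e, isom_inv_apply]
    exact Subtype.ext (inv_mul_eq_one.1 this).symm
  · obtain ⟨g, hg, hg'⟩ := exists_unip hf f'.2
    exact ⟨⟨g, hg.1⟩, Subtype.ext (funext hg')⟩

theorem unip_le_closure [Finite F] (C : P.Chamber) : unip C ≤ Subgroup.closure P.moves := by
  intro u hu
  obtain ⟨D, hD⟩ := exists_opp C
  obtain ⟨f, hf, -⟩ := hD.exists_part
  obtain ⟨g, hg, hg'⟩ := exists_unip hf (hf.map hu)
  have : (⟨g, hg.1⟩ : unip C) = ⟨u, hu⟩ := (bijective_unip hf).1 (Subtype.ext (funext hg'))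
  obtain rfl : g = u := congrArg Subtype.val this
  exact hg.2

theorem card_unip [Finite F] (C : P.Chamber) :
    Nat.card (unip C) = Nat.card {D : P.Chamber // Opp C D} := by
  obtain ⟨D, hD⟩ := exists_opp C
  obtain ⟨f, hf, -⟩ := hD.exists_part
  exact (Nat.card_congr (Equiv.ofBijective _ (bijective_unip hf))).trans (Nat.card_congr (oppEquiv C))

omit [Finite V] in
theorem unip_smul_opp_free {C D : P.Chamber} (hD : Opp C D) {g : P.isom} (hg : g ∈ unip C)
    (hgD : g • D = D) : g = 1 := by
  obtain ⟨f, hf, hfD⟩ := hD.exists_part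
  refine unip_free hf hg fun i => congrFun (Part.eq_of_mem hD (hf.map hg) hf (fun j => ?_) hfD) i
  rw [← hgD, smul_fl]
  exact ⟨f j, hfD j, rfl⟩

theorem unip_transitive {C D D' : P.Chamber} (hD : Opp C D) (hD' : Opp C D') :
    ∃ g ∈ unip C, g • D = D' := by
  obtain ⟨f, hf, hfD⟩ := hD.exists_part
  obtain ⟨f', hf', hfD'⟩ := hD'.exists_part
  obtain ⟨g, hg, hg'⟩ := exists_unip hf hf'
  refine ⟨g, hg.1, ?_⟩
  rw [← hf'.chamber_eq hfD']
  refine (hf'.chamber_eq fun j => ?_).symm
  rw [← hg' j, smul_fl]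
  exact ⟨f j, hfD j, rfl⟩

theorem exists_ne_partner [Finite F] (hsize : 2 < finrank F V ∨ 2 ≤ P.t) {e f : V} (he : e ≠ 0) (hes : P.Sing e)
    (hef : P.B e f = 1) (hfs : P.Sing f) : ∃ f', MoveData P e f f' ∧ f' ≠ f := by
  classical
  rcases hsize with hn | ht
  · obtain ⟨y, hy, hyn⟩ : ∃ y, P.B e y = 0 ∧ y ∉ F ∙ e := by
      by_contra hc
      push Not at hc
      have hle : P.orth (F ∙ e) ≤ F ∙ e := fun y hy => hc y (hy e (Submodule.mem_span_singleton_self e))
      have h := P.card_orth (F ∙ e)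
      rw [Module.natCard_eq_pow_finrank (K := F) (V := P.orth (F ∙ e)),
        Module.natCard_eq_pow_finrank (K := F) (V := (F ∙ e : Submodule F V)),
        Module.natCard_eq_pow_finrank (K := F) (V := V), ← pow_add] at h
      have hlt := Nat.pow_right_injective (Finite.one_lt_card (α := F)) h
      have h1 := Submodule.finrank_mono hle
      rw [finrank_span_singleton he] at hlt h1
      omega
    have hpos : 0 < Nat.card {c : F // P.Sing (f + y + c • e)} := by
      rw [P.card_partner e (f + y) hes (by rw [map_add, hef, hy, add_zero])]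
      exact P.t_pos
    obtain ⟨⟨c, hc⟩⟩ := (Nat.card_pos_iff.1 hpos).1
    refine ⟨f + y + c • e, ⟨hes, hfs, hc, hef, ?_⟩, fun h => hyn ?_⟩
    · rw [map_add, map_add, hef, hy, B_smul_right, P.sing_self e hes]; ring
    · refine Submodule.mem_span_singleton.2 ⟨-c, ?_⟩
      rw [neg_smul]
      refine (neg_eq_iff_add_eq_zero).2 ?_
      have h' : f + (y + c • e) = f + 0 := by rw [← add_assoc, h, add_zero]
      rw [add_comm]
      exact add_left_cancel h'
  · have hcard := P.card_partner e f hes hef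
    have : 1 < Nat.card {c : F // P.Sing (f + c • e)} := by omega
    have := Finite.one_lt_card_iff_nontrivial.1 this
    obtain ⟨⟨c, hc⟩, hc0⟩ := exists_ne (⟨0, by simpa using hfs⟩ : {c : F // P.Sing (f + c • e)})
    refine ⟨f + c • e, ⟨hes, hfs, hc, hef, ?_⟩, fun h => hc0 ?_⟩
    · rw [map_add, hef, B_smul_right, P.sing_self e hes]; ring
    · have : c • e = 0 := by simpa using h
      exact Subtype.ext ((smul_eq_zero.1 this).resolve_right he)

/-- The only vectors fixed by all moves along a singular point lie on it. -/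
theorem mem_span_of_fixed [Finite F] (hsize : 2 < finrank F V ∨ 2 ≤ P.t) {e : V} (he : e ≠ 0) (hes : P.Sing e)
    {x : V} (hx : ∀ f f', ∀ h : MoveData P e f f', h.move.1 x = x) : x ∈ F ∙ e := by
  obtain ⟨v, -, hv⟩ := P.exists_sep (W := ⊥) (x := e) (by simpa using he)
  have hpos : 0 < Nat.card {c : F // P.Sing (v + c • e)} := by
    rw [P.card_partner e v hes hv]; exact P.t_pos
  obtain ⟨⟨c, hc⟩⟩ := (Nat.card_pos_iff.1 hpos).1
  obtain ⟨f, hf, hef⟩ : ∃ f, P.Sing f ∧ P.B e f = 1 :=
    ⟨v + c • e, hc, by rw [map_add, hv, B_smul_right, P.sing_self e hes]; ring⟩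
  have hfix : ∀ f', MoveData P e f f' →
      P.B e x • (f' - f) + (P.ε * (P.B (f' - f) f * P.B e x - P.B (f' - f) x)) • e = 0 := fun f' h => by
    have h1 := hx f f' h
    rw [h.move_apply, moveMap_apply, add_assoc] at h1
    exact add_eq_left.1 h1
  have hb : P.B e x = 0 := by
    obtain ⟨f', h, hne⟩ := exists_ne_partner hsize he hes hef hf
    by_contra hb
    have h1 := hfix f' h
    obtain ⟨d, hd⟩ : ∃ d : F, f' - f = d • e := by
      refine ⟨-(P.B e x)⁻¹ * (P.ε * (P.B (f' - f) f * P.B e x - P.B (f' - f) x)), ?_⟩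
      have h2 := congrArg (fun w => (P.B e x)⁻¹ • w) h1
      simp only [smul_add, smul_smul, smul_zero, inv_mul_cancel₀ hb, one_smul] at h2
      rw [neg_mul, neg_smul]
      exact eq_neg_of_add_eq_zero_left h2
    have hde : P.B (d • e) f = P.σ d := by rw [B_smul_left, hef, mul_one]
    have hdx : P.B (d • e) x = P.σ d * P.B e x := B_smul_left P d e x
    rw [hd, hde, hdx, sub_self, mul_zero, zero_smul, add_zero] at h1
    exact hne (sub_eq_zero.1 (hd ▸ ((smul_eq_zero.1 h1).resolve_left hb)))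
  by_contra hne
  obtain ⟨y, hy, hxy⟩ := P.exists_sep hne
  have hey : P.B e y = 0 := hy e (Submodule.mem_span_singleton_self e)
  have hpos : 0 < Nat.card {c : F // P.Sing (f + y + c • e)} := by
    rw [P.card_partner e (f + y) hes (by rw [map_add, hef, hey, add_zero])]; exact P.t_pos
  obtain ⟨⟨c, hc⟩⟩ := (Nat.card_pos_iff.1 hpos).1
  have h : MoveData P e f (f + y + c • e) :=
    ⟨hes, hf, hc, hef, by rw [map_add, map_add, hef, hey, B_smul_right, P.sing_self e hes]; ring⟩
  have h1 := hfix _ h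
  have hd : f + y + c • e - f = y + c • e := by abel
  rw [hd, hb, zero_smul, zero_add, mul_zero, zero_sub, B_add_left, B_smul_left, hb, mul_zero, add_zero] at h1
  have hyx : P.B y x = 0 := by
    rcases smul_eq_zero.1 h1 with h2 | h2
    · rcases mul_eq_zero.1 h2 with h3 | h3
      · exact absurd h3 P.ε_ne
      · exact neg_eq_zero.1 h3
    · exact absurd h2 he
  rw [P.swap_zero hyx] at hxy
  exact zero_ne_one hxy

end Cfsg.Agent.ClassicalSteinberg.Polar
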